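import Groth.Agent.FppfSource.Scheme
import Groth.Agent.SepSurj.Basic
import Mathlib

/-!
Cancellation and descent lemmas for the bootstrap.
-/

set_option autoImplicit false

universe u

open CategoryTheory CategoryTheory.Limits AlgebraicGeometry MorphismProperty

namespace Groth.Agent.Bootstrap

theorem of_postcomp_diag (P : MorphismProperty Scheme.{u}) [P.IsStableUnderBaseChange] [P.IsStableUnderComposition]
    {X Y Z : Scheme.{u}} (f : X ⟶ Y) (g : Y ⟶ Z) [FormallyUnramified g] [LocallyOfFiniteType g]
    (hP : ∀ {A B : Scheme.{u}} (j : A ⟶ B), IsOpenImmersion j → P j) (h : P (f ≫ g)) : P f := by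
  let Γf : X ⟶ pullback (f ≫ g) g := pullback.lift (𝟙 X) f (Category.id_comp _)
  let M := pullback.map (f ≫ g) g g g f (𝟙 Y) (𝟙 Z) (Category.comp_id _) (by simp)
  have hM₁ : M ≫ pullback.fst g g = pullback.fst (f ≫ g) g ≫ f := pullback.lift_fst _ _ _
  have hM₂ : M ≫ pullback.snd g g = pullback.snd (f ≫ g) g := (pullback.lift_snd _ _ _).trans (Category.comp_id _)
  have hΓ₁ : Γf ≫ pullback.fst (f ≫ g) g = 𝟙 X := pullback.lift_fst _ _ _
  have hΓ₂ : Γf ≫ pullback.snd (f ≫ g) g = f := pullback.lift_snd _ _ _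
  have sq : IsPullback Γf f M (pullback.diagonal g) := by
    refine ⟨⟨?_⟩, ⟨PullbackCone.IsLimit.mk _
      (fun s => s.fst ≫ pullback.fst _ _) (fun s => ?_) (fun s => ?_) (fun s m hm₁ _ => ?_)⟩⟩
    · apply pullback.hom_ext
      · rw [Category.assoc, hM₁, ← Category.assoc, hΓ₁, Category.id_comp, Category.assoc, pullback.diagonal_fst,
          Category.comp_id]
      · rw [Category.assoc, hM₂, hΓ₂, Category.assoc, pullback.diagonal_snd, Category.comp_id]
    · have h₁ := congrArg (· ≫ pullback.fst g g) s.condition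
      have h₂ := congrArg (· ≫ pullback.snd g g) s.condition
      simp only [Category.assoc, hM₁, hM₂, pullback.diagonal_fst, pullback.diagonal_snd, Category.comp_id] at h₁ h₂
      apply pullback.hom_ext
      · rw [Category.assoc, hΓ₁, Category.comp_id]
      · rw [Category.assoc, hΓ₂, Category.assoc, h₁, h₂]
    · have h₁ := congrArg (· ≫ pullback.fst g g) s.condition
      simp only [Category.assoc, hM₁, pullback.diagonal_fst, Category.comp_id] at h₁
      rw [Category.assoc, h₁]
    · rw [← hm₁, Category.assoc, hΓ₁, Category.comp_id]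
  have : IsOpenImmersion Γf := MorphismProperty.of_isPullback sq.flip inferInstance
  have e : Γf ≫ pullback.snd (f ≫ g) g = f := pullback.lift_snd _ _ _
  rw [← e]
  exact P.comp_mem _ _ (hP _ this) (P.pullback_snd _ _ h)

theorem flat_of_postcomp {X Y Z : Scheme.{u}} (f : X ⟶ Y) (g : Y ⟶ Z) [FormallyUnramified g]
    [LocallyOfFiniteType g] [Flat (f ≫ g)] : Flat f :=
  of_postcomp_diag @Flat f g (fun _ h => inferInstance) inferInstance

theorem lfp_of_postcomp {X Y Z : Scheme.{u}} (f : X ⟶ Y) (g : Y ⟶ Z) [FormallyUnramified g]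
    [LocallyOfFiniteType g] [LocallyOfFinitePresentation (f ≫ g)] : LocallyOfFinitePresentation f :=
  of_postcomp_diag @LocallyOfFinitePresentation f g (fun _ h => inferInstance) inferInstance

/-- Flatness descends along fppf surjections of the source. -/
theorem flat_of_comp {X Y Z : Scheme.{u}} (f : X ⟶ Y) (g : Y ⟶ Z) [Flat f] [LocallyOfFinitePresentation f]
    [Surjective f] [Flat (f ≫ g)] : Flat g :=
  FppfSource.descend_fppf_ringHom @Flat (fun {A B C} _ _ _ _ _ _ _ _ _ h => by
    haveI : Module.Flat A C := RingHom.flat_algebraMap_iff.1 h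
    exact RingHom.flat_algebraMap_iff.2 (SepSurj.flat_of_comp_faithfullyFlat (S := B) (T := C))) f g ‹_›

end Groth.Agent.Bootstrap
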