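import Groth.Agent.Bootstrap.Main
import Groth.Agent.UnivInjMor.MonoUnram
import Groth.Agent.AlgSpLib.Points
import Groth.Prelude.Def_AlgSpRep
import Groth.Prelude.Def_AlgSp4
import Mathlib

/-!
A sheaf with a flat, locally finitely presented, surjective cover by an algebraic space is an algebraic space.
-/

set_option autoImplicit false
set_option linter.style.haveILetI false
set_option backward.isDefEq.respectTransparency false

universe u

open CategoryTheory CategoryTheory.Limits AlgebraicGeometry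
open Groth.Agent.AlgSpLib AlgSp

namespace Groth.Agent.Bootstrap

variable {S : Scheme.{u}}

/-- fppf covers: every base change to a scheme is an algebraic space, flat, locally finitely presented and
surjective over it -/
def IsFppfRep {X F : Sp S} (p : X ⟶ F) : Prop :=
  ∀ ⦃T : Over S⦄ (ξ : (yon S).obj T ⟶ F) ⦃Q : Sp S⦄ (fst : Q ⟶ X) (snd : Q ⟶ (yon S).obj T),
    IsPullback fst snd p ξ → IsAlgSpace Q ∧ IsSurjectiveMor snd ∧
      ∀ ⦃W : Over S⦄ (a : (yon S).obj W ⟶ Q) (h : W ⟶ T), RepWith @Etale a → a ≫ snd = (yon S).map h →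
        Flat h.left ∧ LocallyOfFinitePresentation h.left

theorem repWith_id {P : MorphismProperty Scheme.{u}} [P.RespectsIso] [P.ContainsIdentities] (F : Sp S) :
    RepWith P (𝟙 F) := repWith_of_isIso _

theorem isFppfRep_of_repBySpWith {X F : Sp S} (p : X ⟶ F)
    (hp : RepBySpWith (IsSurjectiveMor ⊓ LocP @Flat ⊓ LocP @LocallyOfFinitePresentation) p.hom) :
    IsFppfRep p := fun T ξ Q fst snd sq => by
  obtain ⟨hQ, ⟨hs, hfl⟩, hfp⟩ := (repBySpWith_hom_iff _ p).1 hp ξ fst snd sq
  exact ⟨hQ, hs, fun W a h ha e => ⟨hfl a (𝟙 _) h ha (repWith_id _) (by rw [e, Category.comp_id]),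
    hfp a (𝟙 _) h ha (repWith_id _) (by rw [e, Category.comp_id])⟩⟩

/-- composing with an etale atlas of the source -/
theorem IsFppfRep.comp_atlas {X F : Sp S} {p : X ⟶ F} (hp : IsFppfRep p) (hX : IsAlgSpace X) {U : Over S}
    {π : (yon S).obj U ⟶ X} (he : RepWith @Etale π) (hs : RepWith @Surjective π) : IsFppfRep (π ≫ p) := by
  intro T ξ Q fst snd sq
  have sqA := IsPullback.of_hasPullback p ξ
  obtain ⟨hA, hAs, hAloc⟩ := hp ξ _ _ sqA
  let c : Q ⟶ pullback p ξ := pullback.lift (fst ≫ π) snd (by rw [Category.assoc]; exact sq.w)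
  have hc₂ : c ≫ pullback.snd p ξ = snd := pullback.lift_snd _ _ _
  have sqc : IsPullback fst c π (pullback.fst p ξ) := by
    refine IsPullback.of_bot ?_ (pullback.lift_fst _ _ _).symm sqA
    rw [hc₂]; exact sq
  refine ⟨isAlgSpace_of_isPullback_space hX (IsAlgSpace.yon_obj U) hA sqc, fun y => ?_, fun W a h ha e => ?_⟩
  · obtain ⟨z, rfl⟩ := hAs y
    obtain ⟨q, rfl⟩ := isSurjectiveMor_of_repWith (repWith_baseChange sqc hs) z
    exact ⟨q, by rw [← hc₂]; exact Points.map_comp c (pullback.snd p ξ) q⟩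
  · exact hAloc (a ≫ c) h (repWith_comp ha (repWith_baseChange sqc he)) (by rw [Category.assoc, hc₂, e])

theorem IsFppfRep.exists_lift {U : Over S} {F : Sp S} {p : (yon S).obj U ⟶ F} (hp : IsFppfRep p) {T : Over S}
    (ξ : (yon S).obj T ⟶ F) : ∃ (T' : Over S) (g : T' ⟶ T) (l : (yon S).obj T' ⟶ (yon S).obj U),
      Flat g.left ∧ Surjective g.left ∧ LocallyOfFinitePresentation g.left ∧ l ≫ p = (yon S).map g ≫ ξ := by
  have sq := IsPullback.of_hasPullback p ξ
  obtain ⟨hQ, hQs, hloc⟩ := hp ξ _ _ sq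
  obtain ⟨W, w, hwe, hws⟩ := hQ.atlas
  obtain ⟨h, hh⟩ := exists_map_eq (w ≫ pullback.snd p ξ)
  obtain ⟨h1, h2⟩ := hloc w h hwe hh.symm
  refine ⟨W, h, w ≫ pullback.fst p ξ, h1, ⟨fun v => ?_⟩, h2, ?_⟩
  · obtain ⟨z, hz⟩ := hQs (Points.ofScheme T v)
    obtain ⟨u, rfl⟩ := ofPt_surjective hws z
    refine ⟨u, (Points.schemeEquiv T).injective ?_⟩
    change Points.ofScheme T (h.left u) = Points.ofScheme T v
    rw [← ofScheme_map, hh, ← Points.map_ofPt, hz]
  · rw [Category.assoc, sq.w, ← Category.assoc, ← hh]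

theorem isLocallySurjective_of_lifts {H G : Sp S} (b : H ⟶ G)
    (hb : ∀ ⦃T : Over S⦄ (ξ : (yon S).obj T ⟶ G), ∃ (T' : Over S) (g : T' ⟶ T) (l : (yon S).obj T' ⟶ H),
      Flat g.left ∧ Surjective g.left ∧ LocallyOfFinitePresentation g.left ∧ l ≫ b = (yon S).map g ≫ ξ) :
    Sheaf.IsLocallySurjective b := by
  constructor
  intro T σ
  obtain ⟨T', g, l, _, _, _, hl⟩ := hb ((J S).uliftYonedaEquiv.symm σ)
  refine GrothendieckTopology.superset_covering _ ?_
    (QuotShLib.generate_singleton_mem_J (K := Scheme.fppfPrecoverage) (q := g) g.left.singleton_mem_fppfPrecoverage)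
  rintro Z _ ⟨W, k, _, ⟨⟩, rfl⟩
  refine ⟨(J S).uliftYonedaEquiv ((yon S).map k ≫ l), ?_⟩
  rw [← uliftYonedaEquiv_comp', Category.assoc, hl, ← Category.assoc, ← Functor.map_comp]
  rw [← Equiv.eq_symm_apply, ← GrothendieckTopology.uliftYonedaEquiv_symm_naturality_left]

/-- a sheaf covered by a scheme with kernel pair an algebraic space flat and locally finitely presented
over it is an algebraic space -/
theorem isAlgSpace_of_kernelPair {U : Over S} {F : Sp S} (p : (yon S).obj U ⟶ F) [Sheaf.IsLocallySurjective p]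
    {K : Sp S} {π₁ π₂ : K ⟶ (yon S).obj U} (sq : IsPullback π₁ π₂ p p) (hK : IsAlgSpace K)
    (hloc : ∀ ⦃W : Over S⦄ (a : (yon S).obj W ⟶ K) (h : W ⟶ U), RepWith @Etale a → a ≫ π₂ = (yon S).map h →
      Flat h.left ∧ LocallyOfFinitePresentation h.left)
    (hloc' : ∀ ⦃W : Over S⦄ (a : (yon S).obj W ⟶ K) (h : W ⟶ U), RepWith @Etale a → a ≫ π₁ = (yon S).map h →
      Flat h.left ∧ LocallyOfFinitePresentation h.left) :
    IsAlgSpace F := by
  -- the relation is a scheme
  let j : K ⟶ (yon S).obj (U ⨯ U) :=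
    prod.lift (π₁) (π₂) ≫ inv (prodComparison (yon S) U U)
  have hj₁ : j ≫ (yon S).map prod.fst = π₁ := by
    simp only [j, Category.assoc]
    rw [show inv (prodComparison (yon S) U U) ≫ (yon S).map prod.fst = prod.fst by simp [IsIso.inv_comp_eq, prodComparison], prod.lift_fst]
  have hj₂ : j ≫ (yon S).map prod.snd = π₂ := by
    simp only [j, Category.assoc]
    rw [show inv (prodComparison (yon S) U U) ≫ (yon S).map prod.snd = prod.snd by simp [IsIso.inv_comp_eq, prodComparison], prod.lift_snd]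
  haveI : Mono j := ⟨fun a b e => sq.hom_ext (by rw [← hj₁, reassoc_of% e]) (by rw [← hj₂, reassoc_of% e])⟩
  have hl : LocP @LocallyOfFiniteType j := fun W V a b h ha hb comm => by
    obtain ⟨b, rfl⟩ := exists_map_eq b
    obtain ⟨-, h2⟩ := hloc a (h ≫ b ≫ prod.snd) ha (by
      rw [← hj₂, ← Category.assoc, comm]; simp)
    haveI : LocallyOfFiniteType (h.left ≫ (b ≫ prod.snd).left) := by
      haveI : LocallyOfFinitePresentation (h ≫ b ≫ prod.snd).left := h2
      exact inferInstanceAs (LocallyOfFiniteType (h ≫ b ≫ prod.snd).left)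
    exact locallyOfFiniteType_of_comp h.left (b ≫ prod.snd).left
  obtain ⟨R, fst, snd, sqj⟩ := exists_isPullback_of_representable
    (UnivInjMor.representable_of_mono hK (IsAlgSpace.yon_obj _) j hl) (𝟙 ((yon S).obj (U ⨯ U)))
  haveI : IsIso fst := sqj.isIso_fst_of_isIso
  let t : R ⟶ U := snd ≫ prod.fst
  let s : R ⟶ U := snd ≫ prod.snd
  have ht : fst ≫ π₁ = (yon S).map t := by
    rw [← hj₁, ← Category.assoc, sqj.w, Category.comp_id, ← Functor.map_comp]
  have hs : fst ≫ π₂ = (yon S).map s := by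
    rw [← hj₂, ← Category.assoc, sqj.w, Category.comp_id, ← Functor.map_comp]
  have sqR : IsPullback ((yon S).map t) ((yon S).map s) p p :=
    sq.of_iso (asIso fst).symm (Iso.refl _) (Iso.refl _) (Iso.refl _) (by simp [← ht]) (by simp [← hs])
      (by simp) (by simp)
  obtain ⟨hfls, hfps⟩ := hloc fst s (repWith_of_isIso _) hs
  obtain ⟨hflt, hfpt⟩ := hloc' fst t (repWith_of_isIso _) ht
  -- it is an equivalence relation
  have hrel : ∀ (T : Over S) (a b : T ⟶ U), (∃ r : T ⟶ R, r ≫ t = a ∧ r ≫ s = b) ↔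
      (yon S).map a ≫ p = (yon S).map b ≫ p := by
    intro T a b
    constructor
    · rintro ⟨r, rfl, rfl⟩
      rw [(yon S).map_comp r t, (yon S).map_comp r s, Category.assoc, Category.assoc, sqR.w]
    · intro e
      obtain ⟨r, hr⟩ := exists_map_eq (sqR.lift _ _ e)
      exact ⟨r, (yon S).map_injective (by rw [Functor.map_comp, hr, IsPullback.lift_fst]),
        (yon S).map_injective (by rw [Functor.map_comp, hr, IsPullback.lift_snd])⟩
  have heqv : AlgSp.IsEqvRel s t := ⟨fun T r r' e₁ e₂ => (yon S).map_injective (sqR.hom_ext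
      (by rw [← Functor.map_comp, e₁, Functor.map_comp]) (by rw [← Functor.map_comp, e₂, Functor.map_comp])),
    fun T => { refl := fun a => (hrel T a a).2 rfl
               symm := fun {a b} e => (hrel T b a).2 ((hrel T a b).1 e).symm
               trans := fun {a b c} e e' => (hrel T a c).2 (((hrel T a b).1 e).trans ((hrel T b c).1 e')) }⟩
  obtain ⟨hc⟩ := isColimit_of_isPullback sqR
  exact IsAlgSpace.of_iso (isAlgSpace_quot heqv)
    ((isColimitQuotProj s t).coconePointUniqueUpToIso hc)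

/-- a sheaf with an fppf cover by a scheme is an algebraic space -/
theorem IsFppfRep.isAlgSpace_scheme {U : Over S} {F : Sp S} {p : (yon S).obj U ⟶ F} (hp : IsFppfRep p) :
    IsAlgSpace F := by
  haveI : Sheaf.IsLocallySurjective p := isLocallySurjective_of_lifts p fun T ξ => hp.exists_lift ξ
  have sq := IsPullback.of_hasPullback p p
  exact isAlgSpace_of_kernelPair p sq (hp p _ _ sq).1 (hp p _ _ sq).2.2 (hp p _ _ sq.flip).2.2

/-- a sheaf with an fppf cover by an algebraic space is an algebraic space -/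
theorem IsFppfRep.isAlgSpace {X F : Sp S} {p : X ⟶ F} (hp : IsFppfRep p) (hX : IsAlgSpace X) :
    IsAlgSpace F := by
  obtain ⟨U, π, he, hs⟩ := hX.atlas
  exact (hp.comp_atlas hX he hs).isAlgSpace_scheme

end Groth.Agent.Bootstrap

namespace Groth.Agent.Bootstrap

variable {S : Scheme.{u}}

theorem isFppfRep_of_etale {X F : Sp S} (p : X ⟶ F)
    (hp : RepBySpWith (IsSurjectiveMor ⊓ IsEtaleMor) p.hom) : IsFppfRep p := fun T ξ Q fst snd sq => by
  obtain ⟨hQ, hs, he⟩ := (repBySpWith_hom_iff _ p).1 hp ξ fst snd sq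
  refine ⟨hQ, hs, fun W a h ha e => ?_⟩
  have : Etale h.left := (isEtaleMor_iff_locP (IsAlgSpace.yon_obj T)).1 he a (𝟙 _) h ha (repWith_id _)
    (by rw [e, Category.comp_id])
  exact ⟨inferInstance, inferInstance⟩

end Groth.Agent.Bootstrap
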