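import Groth.Agent.Bootstrap.Coprod
import Groth.Agent.Bootstrap.Cover
import Mathlib

/-!
Universality of coproducts of fppf sheaves, coproducts of algebraic spaces and fppf covers out of coproducts.
-/

set_option autoImplicit false
set_option linter.style.haveILetI false
set_option backward.isDefEq.respectTransparency false

universe u

open CategoryTheory CategoryTheory.Limits AlgebraicGeometry Opposite
open Groth.Agent.AlgSpLib AlgSp

namespace Groth.Agent.Bootstrap

variable {S : Scheme.{u}} {ι : Type u} {F : ι → Sp S}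

/-- coproducts are stable under base change -/
theorem isIso_desc_of_isPullback {c : Cofan F} (hc : IsColimit c) {Q : Sp S} (h : Q ⟶ c.pt) {P : ι → Sp S}
    (a : ∀ i, P i ⟶ F i) (b : ∀ i, P i ⟶ Q) (sq : ∀ i, IsPullback (a i) (b i) (c.inj i) h)
    {c' : Cofan P} (hc' : IsColimit c') : IsIso (Cofan.IsColimit.desc hc' b) := by
  let d := Cofan.IsColimit.desc hc' b
  have hd : ∀ i, c'.inj i ≫ d = b i := Cofan.IsColimit.fac hc' b
  have : Mono d := mono_of_points _ fun T x y e => by
    obtain ⟨R, hR, hl⟩ := exists_summand_cover hc' x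
    refine hom_ext_cover hR fun Z g hg => ?_
    obtain ⟨i, l, hl₁⟩ := hl g hg
    obtain ⟨R', hR', hl'⟩ := exists_summand_cover hc'
      ((yon S).map (Over.homMk g rfl : Over.mk (g ≫ T.hom) ⟶ T) ≫ y)
    rw [← hl₁]
    refine hom_ext_cover hR' fun Z' g' hg' => ?_
    obtain ⟨j, l', hl₂⟩ := hl' g' hg'
    let g₁ : Over.mk (g' ≫ (Over.mk (g ≫ T.hom)).hom) ⟶ Over.mk (g ≫ T.hom) := Over.homMk g' rfl
    have e' : ((yon S).map g₁ ≫ l) ≫ b i = l' ≫ b j := by
      rw [← hd, ← hd, Category.assoc, reassoc_of% hl₁, e, reassoc_of% hl₂]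
    have e'' : ((yon S).map g₁ ≫ l ≫ a i) ≫ c.inj i = (l' ≫ a j) ≫ c.inj j := by
      simp only [Category.assoc] at e' ⊢
      rw [(sq i).w, (sq j).w, reassoc_of% e']
    obtain ⟨h1, h2⟩ := summand_eq hc _ _ e''
    rw [← hl₂, ← Category.assoc]
    by_cases hne : Nonempty ↥(Over.mk (g' ≫ (Over.mk (g ≫ T.hom)).hom)).left
    · obtain rfl := h1 hne
      have h3 := h2 rfl
      rw [eqToHom_refl, Category.comp_id] at h3
      congr 1
      exact (sq i).hom_ext (by rw [Category.assoc]; exact h3) e'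
    · have : IsEmpty (Over.mk (g' ≫ (Over.mk (g ≫ T.hom)).hom)).left := not_nonempty_iff.1 hne
      exact (subsingleton_hom_of_isEmpty (F := c'.pt)).elim _ _
  have : Sheaf.IsLocallySurjective d := by
    constructor
    intro T σ
    let s : (yon S).obj T ⟶ Q := (J S).uliftYonedaEquiv.symm σ
    obtain ⟨R, hR, hl⟩ := exists_summand_cover hc (s ≫ h)
    obtain ⟨ι', X', f', rfl⟩ := R.exists_eq_ofArrows
    refine (J S).superset_covering ?_
      (generate_ofArrows_mem_J (V := fun k => Over.mk (f' k ≫ T.hom)) (fun k => Over.homMk (f' k) rfl) hR)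
    rintro Z _ ⟨_, m, _, ⟨k⟩, rfl⟩
    obtain ⟨i, l, hli⟩ := hl (f' k) (Presieve.ofArrows.mk k)
    let p := (sq i).lift ((yon S).map m ≫ l)
      ((yon S).map (m ≫ (Over.homMk (f' k) rfl : Over.mk (f' k ≫ T.hom) ⟶ T)) ≫ s)
      (by rw [Category.assoc, hli, Functor.map_comp]; simp only [Category.assoc])
    refine ⟨(J S).uliftYonedaEquiv (p ≫ c'.inj i), ?_⟩
    rw [← uliftYonedaEquiv_comp', Category.assoc, hd, (sq i).lift_snd, ← Equiv.eq_symm_apply,
      ← GrothendieckTopology.uliftYonedaEquiv_symm_naturality_left]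
  have : Epi d := (Sheaf.isLocallySurjective_iff_epi d).1 inferInstance
  exact isIso_of_mono_of_epi d

/-- the sheaf of a coproduct of schemes is the coproduct of the sheaves -/
theorem nonempty_isColimit_yon_sigma {Z : ι → Scheme.{u}} (f : ∀ i, Z i ⟶ S) :
    Nonempty (IsColimit (Cofan.mk ((yon S).obj (Over.mk (Sigma.desc f))) fun i =>
      (yon S).map (Over.homMk (Sigma.ι Z i) (Sigma.ι_desc f i) : Over.mk (f i) ⟶ Over.mk (Sigma.desc f)))) := by
  refine ⟨mkCofanColimit _ (fun t => (exists_sigma_hom f fun i => t.inj i).choose)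
    (fun t i => (exists_sigma_hom f fun i => t.inj i).choose_spec i) fun t m hm => ?_⟩
  let e : ∀ i, Over.mk (Sigma.ι Z i ≫ Sigma.desc f) ⟶ Over.mk (f i) := fun i =>
    Over.homMk (𝟙 _) ((Category.id_comp _).trans (Sigma.ι_desc f i).symm)
  refine hom_ext_cover (R := Presieve.ofArrows Z (Sigma.ι Z))
    (Scheme.zariskiPrecoverage_le_fppfPrecoverage _ (sigmaOpenCover Z).mem₀) ?_
  rintro _ _ ⟨i⟩
  have he : (Over.homMk (Sigma.ι Z i) rfl : Over.mk (Sigma.ι Z i ≫ Sigma.desc f) ⟶ Over.mk (Sigma.desc f)) =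
      e i ≫ (Over.homMk (Sigma.ι Z i) (Sigma.ι_desc f i) : Over.mk (f i) ⟶ Over.mk (Sigma.desc f)) :=
    Over.OverMorphism.ext (Category.id_comp _).symm
  erw [he]
  rw [Functor.map_comp, Category.assoc, Category.assoc]
  exact congrArg ((yon S).map (e i) ≫ ·) ((hm i).trans ((exists_sigma_hom f fun i => t.inj i).choose_spec i).symm)

/-- a coproduct of algebraic spaces is an algebraic space -/
theorem isAlgSpace_cofan {c : Cofan F} (hc : IsColimit c) (hF : ∀ i, IsAlgSpace (F i)) : IsAlgSpace c.pt := by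
  choose U π he hs using fun i => (hF i).atlas
  let Zu : ι → Scheme.{u} := fun i => (U i).left
  let UU : Over S := Over.mk (Sigma.desc fun i => (U i).hom)
  let jU : ∀ i, U i ⟶ UU := fun i => Over.homMk (Sigma.ι Zu i) (Sigma.ι_desc (fun i => (U i).hom) i)
  obtain ⟨L, hL'⟩ := exists_sigma_hom (F := c.pt) (Z := Zu) (fun i => (U i).hom) fun i => π i ≫ c.inj i
  have hL : ∀ i, (yon S).map (jU i) ≫ L = π i ≫ c.inj i := hL'
  have hjo : ∀ i, IsOpenImmersion (jU i).left := fun i => inferInstanceAs (IsOpenImmersion (Sigma.ι Zu i))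
  have sqU : ∀ i, IsPullback (π i) ((yon S).map (jU i)) (c.inj i) L := fun i => by
    have := mono_inj hc i
    have := hjo i
    refine isPullback_of_points (hL i).symm fun T a b e => ?_
    obtain ⟨b, rfl⟩ := exists_map_eq b
    have hr : Set.range b.left ⊆ Set.range (jU i).left := by
      rintro _ ⟨t, rfl⟩
      obtain ⟨k, x, hx⟩ := (sigmaOpenCover Zu).exists_eq (b.left t)
      have hx' : (jU k).left x = b.left t := hx
      have h1 : Points.ofPt L (b.left t) ∈ Set.range (Points.map (c.inj k)) :=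
        ⟨Points.ofPt (π k) x, by rw [Points.map_ofPt, ← hL k, ofPt_comp, hx']⟩
      have h2 : Points.ofPt L (b.left t) ∈ Set.range (Points.map (c.inj i)) :=
        ⟨Points.ofPt a t, by rw [Points.map_ofPt, e, ofPt_comp]⟩
      obtain rfl := eq_of_mem_range hc h1 h2
      exact ⟨x, hx'⟩
    let m : T ⟶ U i := Over.homMk (IsOpenImmersion.lift (jU i).left b.left hr) (by
      rw [← Over.w (jU i), IsOpenImmersion.lift_fac_assoc, Over.w])
    have hm : m ≫ jU i = b := Over.OverMorphism.ext (IsOpenImmersion.lift_fac _ _ _)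
    have : Mono (jU i).left := inferInstance
    have : Mono (jU i) := mono_of_left _
    refine ⟨(yon S).map m, ⟨?_, by rw [← Functor.map_comp, hm]⟩, fun m' hm' => ?_⟩
    · rw [← cancel_mono (c.inj i), Category.assoc, ← hL, ← Category.assoc, ← Functor.map_comp, hm, e]
    · obtain ⟨m', rfl⟩ := exists_map_eq m'
      have := hm'.2
      rw [← Functor.map_comp] at this
      rw [(cancel_mono (jU i)).1 (((yon S).map_injective this).trans hm.symm)]
  suffices key : ∀ {T : Over S} (ξ : (yon S).obj T ⟶ c.pt), ∃ (W : Over S) (m : (yon S).obj W ⟶ (yon S).obj UU)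
      (w : W ⟶ T), IsPullback m ((yon S).map w) L ξ ∧ Etale w.left ∧ Surjective w.left from
    isAlgSpace_of_atlas (repWith_of_exists fun T ξ => by
      obtain ⟨W, m, w, h1, h2, -⟩ := key ξ; exact ⟨W, m, w, h1, h2⟩)
      (repWith_of_exists fun T ξ => by obtain ⟨W, m, w, h1, -, h3⟩ := key ξ; exact ⟨W, m, w, h1, h3⟩)
  intro T ξ
  choose V l g sqV using fun i => exists_isPullback_of_representable (repWith_inj hc i).1 ξ
  choose W u w sqW using fun i => exists_isPullback_of_representable (he i).1 (l i)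
  have hw : ∀ i, Etale (w i).left := fun i => (he i).2 (l i) (u i) (w i) (sqW i)
  have hws : ∀ i, Surjective (w i).left := fun i => (hs i).2 (l i) (u i) (w i) (sqW i)
  have hg : ∀ i, IsOpenImmersion (g i).left := fun i => (repWith_inj hc i).2 ξ (l i) (g i) (sqV i)
  let Zw : ι → Scheme.{u} := fun i => (W i).left
  let WW : Over S := Over.mk (Sigma.desc fun i => (W i).hom)
  let jW : ∀ i, W i ⟶ WW := fun i => Over.homMk (Sigma.ι Zw i) (Sigma.ι_desc (fun i => (W i).hom) i)
  let ww : WW ⟶ T := Over.homMk (Sigma.desc fun i => (w i ≫ g i).left) (by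
    refine Sigma.hom_ext _ _ fun i => ?_
    exact (Sigma.ι_desc_assoc _ _ _).trans ((Over.w (w i ≫ g i)).trans (Sigma.ι_desc (fun i => (W i).hom) i).symm))
  have hww : ∀ i, jW i ≫ ww = w i ≫ g i := fun i => Over.OverMorphism.ext (Sigma.ι_desc _ _)
  have sqQ := IsPullback.of_hasPullback L ξ
  have hcomm : ∀ i, (u i ≫ (yon S).map (jU i)) ≫ L = (yon S).map (w i ≫ g i) ≫ ξ := fun i => by
    rw [Category.assoc, hL, reassoc_of% (sqW i).w, (sqV i).w, Functor.map_comp, Category.assoc]
  let b : ∀ i, (yon S).obj (W i) ⟶ pullback L ξ := fun i => pullback.lift _ _ (hcomm i)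
  have sqb : ∀ i, IsPullback (u i ≫ π i) (b i) (c.inj i) (pullback.fst L ξ ≫ L) := fun i => by
    have hbig := (sqW i).paste_vert (sqV i)
    rw [← hL i, ← Functor.map_comp, show (yon S).map (w i ≫ g i) = b i ≫ pullback.snd L ξ from
      (pullback.lift_snd _ _ _).symm] at hbig
    exact (IsPullback.of_bot hbig (pullback.lift_fst _ _ _).symm sqQ).paste_horiz (sqU i)
  obtain ⟨hWW⟩ := nonempty_isColimit_yon_sigma (Z := Zw) fun i => (W i).hom
  have := isIso_desc_of_isPullback hc _ _ b sqb hWW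
  let d : (yon S).obj WW ⟶ pullback L ξ := Cofan.IsColimit.desc hWW b
  have hd : d ≫ pullback.snd L ξ = (yon S).map ww := by
    refine Cofan.IsColimit.hom_ext hWW _ _ fun i => ?_
    rw [Cofan.IsColimit.fac_assoc]
    show b i ≫ _ = (yon S).map (jW i) ≫ _
    rw [pullback.lift_snd, ← Functor.map_comp, hww]
  refine ⟨WW, d ≫ pullback.fst L ξ, ww, sqQ.of_iso (asIso d).symm (Iso.refl _) (Iso.refl _) (Iso.refl _)
    (by simp [d]) (by simp [← hd, d]) (by simp) (by simp), ?_, ⟨fun t => ?_⟩⟩
  · refine (IsZariskiLocalAtSource.iff_of_openCover (P := @Etale) (sigmaOpenCover Zw)).2 fun i => ?_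
    have := hw i
    have := hg i
    show Etale (jW i ≫ ww).left
    rw [hww, Over.comp_left]
    infer_instance
  · obtain ⟨i, p, hp⟩ := exists_range_inj hc (Points.ofPt ξ t)
    obtain ⟨A, a, r, rfl⟩ := exists_ofPt p
    rw [Points.map_ofPt] at hp
    obtain ⟨K, α, β, k, e, -, rfl⟩ := exists_of_ofPt_eq hp
    rw [← Category.assoc] at e
    obtain ⟨m, hm⟩ := exists_map_eq ((sqV i).lift _ _ e)
    have hmg : m ≫ g i = β := (yon S).map_injective (by rw [Functor.map_comp, hm, (sqV i).lift_snd])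
    have := hws i
    obtain ⟨z, hz⟩ := (w i).left.surjective (m.left k)
    refine ⟨(jW i).left z, ?_⟩
    show (jW i ≫ ww).left z = _
    rw [hww, ← hmg]
    show (g i).left ((w i).left z) = _
    rw [hz]
    rfl

/-- a map out of a coproduct is an fppf cover when its summands are charts jointly covering -/
theorem isFppfRep_desc {G : Sp S} {c : Cofan F} (hc : IsColimit c) (f : ∀ i, F i ⟶ G)
    (hloc : ∀ ⦃T : Over S⦄ (ξ : (yon S).obj T ⟶ G) (i : ι), IsAlgSpace (pullback (f i) ξ) ∧
      ∀ ⦃W : Over S⦄ (a : (yon S).obj W ⟶ pullback (f i) ξ) (h : W ⟶ T), RepWith @Etale a →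
        a ≫ pullback.snd (f i) ξ = (yon S).map h → Flat h.left ∧ LocallyOfFinitePresentation h.left)
    (hsurj : ∀ ⦃T : Over S⦄ (ξ : (yon S).obj T ⟶ G) (y : Points ((yon S).obj T)),
      ∃ i, y ∈ Set.range (Points.map (pullback.snd (f i) ξ))) :
    IsFppfRep (Cofan.IsColimit.desc hc f) := by
  intro T ξ Q fst snd sq
  let b : ∀ i, pullback (f i) ξ ⟶ Q := fun i => sq.lift (pullback.fst (f i) ξ ≫ c.inj i) (pullback.snd (f i) ξ)
    (by rw [Category.assoc, Cofan.IsColimit.fac, pullback.condition])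
  have sqb : ∀ i, IsPullback (pullback.fst (f i) ξ) (b i) (c.inj i) fst := fun i => by
    refine IsPullback.of_bot ?_ (sq.lift_fst _ _ _).symm sq
    rw [sq.lift_snd, Cofan.IsColimit.fac]
    exact IsPullback.of_hasPullback _ _
  have hP : IsColimit (Cofan.mk (∐ fun i => pullback (f i) ξ) (Sigma.ι fun i => pullback (f i) ξ)) :=
    coproductIsCoproduct _
  have := isIso_desc_of_isPullback hc fst _ b sqb hP
  refine ⟨IsAlgSpace.of_iso (isAlgSpace_cofan hP fun i => (hloc ξ i).1) (asIso (Cofan.IsColimit.desc hP b)), fun y => ?_,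
    fun W a h ha e => ?_⟩
  · obtain ⟨i, z, rfl⟩ := hsurj ξ y
    exact ⟨Points.map (b i) z, by rw [← Points.map_comp, sq.lift_snd]⟩
  · choose V l g sqV using fun i => exists_isPullback_of_representable
      (repWith_baseChange (sqb i) (repWith_inj hc i)).1 a
    have hg : ∀ i, IsOpenImmersion (g i).left := fun i =>
      (repWith_baseChange (sqb i) (repWith_inj hc i)).2 a (l i) (g i) (sqV i)
    have hcov : ∀ x : ↥W.left, ∃ i, x ∈ Set.range (g i).left := fun x => by
      obtain ⟨i, p, hp⟩ := exists_range_inj hc (Points.map fst (Points.ofPt a x))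
      obtain ⟨A, q, r, rfl⟩ := exists_ofPt p
      rw [Points.map_ofPt, Points.map_ofPt] at hp
      obtain ⟨K, α, β, k, e', -, rfl⟩ := exists_of_ofPt_eq hp
      obtain ⟨m, hm⟩ := exists_map_eq ((sqV i).lift ((sqb i).lift ((yon S).map α ≫ q) ((yon S).map β ≫ a)
        (by simpa only [Category.assoc] using e')) ((yon S).map β) ((sqb i).lift_snd _ _ _))
      have hmg : m ≫ g i = β := (yon S).map_injective (by rw [Functor.map_comp, hm, (sqV i).lift_snd])
      exact ⟨i, m.left k, by rw [← hmg]; rfl⟩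
    have key : ∀ i, Flat ((g i).left ≫ h.left) ∧ LocallyOfFinitePresentation ((g i).left ≫ h.left) := fun i =>
      (hloc ξ i).2 (l i) (g i ≫ h) (repWith_baseChange (sqV i).flip ha) (by
        have hb : b i ≫ snd = pullback.snd (f i) ξ := sq.lift_snd _ _ _
        rw [← hb, reassoc_of% (sqV i).w, e, Functor.map_comp])
    let 𝒰 : W.left.OpenCover :=
      { I₀ := ι
        X := fun i => (V i).left
        f := fun i => (g i).left
        mem₀ := by
          rw [Scheme.presieve₀_mem_precoverage_iff]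
          exact ⟨hcov, hg⟩ }
    exact ⟨(IsZariskiLocalAtSource.iff_of_openCover (P := @Flat) 𝒰).2 fun i => (key i).1,
      (IsZariskiLocalAtSource.iff_of_openCover (P := @LocallyOfFinitePresentation) 𝒰).2 fun i => (key i).2⟩

/-- a summand is open and closed -/
theorem repWith_inj_openClosed {c : Cofan F} (hc : IsColimit c) (i : ι) :
    RepWith (@IsOpenImmersion ⊓ @IsClosedImmersion) (c.inj i) := by
  refine repWith_of_exists fun T ξ => ?_
  obtain ⟨V, l, g, sq⟩ := exists_isPullback_of_representable (repWith_inj hc i).1 ξ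
  have hg : IsOpenImmersion g.left := (repWith_inj hc i).2 ξ l g sq
  refine ⟨V, l, g, sq, hg, IsClosedImmersion.of_isPreimmersion g.left ?_⟩
  have e : Set.range g.left = Points.ofPt ξ ⁻¹' Set.range (Points.map (c.inj i)) := by
    ext t
    refine ⟨?_, fun ht => ?_⟩
    · rintro ⟨v, rfl⟩
      exact ⟨Points.ofPt l v, by rw [Points.map_ofPt, sq.w, ofPt_comp]⟩
    · obtain ⟨p, hp⟩ := ht
      obtain ⟨A, a, r, rfl⟩ := exists_ofPt p
      rw [Points.map_ofPt] at hp
      obtain ⟨K, α, β, k, e, -, rfl⟩ := exists_of_ofPt_eq hp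
      rw [← Category.assoc] at e
      obtain ⟨m, hm⟩ := exists_map_eq (sq.lift _ _ e)
      have hmg : m ≫ g = β := (yon S).map_injective (by rw [Functor.map_comp, hm, sq.lift_snd])
      exact ⟨m.left k, by rw [← hmg]; rfl⟩
  rw [e]
  refine IsClosed.preimage (Points.continuous_ofPt ξ) ?_
  have : Set.range (Points.map (c.inj i)) = (⋃ j ∈ {j : ι | j ≠ i}, Set.range (Points.map (c.inj j)))ᶜ := by
    ext x
    simp only [Set.mem_compl_iff, Set.mem_iUnion, Set.mem_setOf_eq, not_exists]
    refine ⟨fun hx j hj hx' => hj (eq_of_mem_range hc hx' hx), fun hx => ?_⟩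
    obtain ⟨j, hj⟩ := exists_range_inj hc x
    by_cases hji : j = i
    · exact hji ▸ hj
    · exact absurd hj (hx j hji)
  rw [this, isClosed_compl_iff]
  exact isOpen_biUnion fun j _ => isOpen_range_inj hc j

end Groth.Agent.Bootstrap
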