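import Groth.Agent.Bootstrap.QuotSp
import Groth.Agent.SmSect.Basic
import Groth.Agent.QuotShLib.Fppf
import Groth.Agent.AlgSpLib.RepBySp
import Mathlib

/-!
Etale sheaves with a smooth cover by an algebraic space are algebraic spaces.
-/

set_option autoImplicit false
set_option linter.style.haveILetI false
set_option backward.isDefEq.respectTransparency false

universe u

open CategoryTheory CategoryTheory.Limits AlgebraicGeometry Opposite
open Groth.Agent.AlgSpLib AlgSp

namespace Groth.Agent.Bootstrap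

variable {S : Scheme.{u}}

/-- the etale topology over `S` -/
abbrev Jet (S : Scheme.{u}) : GrothendieckTopology (Over S) := QuotSh.J Scheme.etalePrecoverage S

theorem jet_le : Jet S ≤ J S := fun X R hR => by
  rw [GrothendieckTopology.mem_over_iff] at hR ⊢
  exact Precoverage.toGrothendieck_mono QuotShLib.etalePrecoverage_le_fppf _ hR

theorem isSheaf_jet (F : Sp S) : Presheaf.IsSheaf (Jet S) F.obj := (isSheaf_iff_isSheaf_of_type _ _).2 (Presieve.isSheaf_of_le _ jet_le ((isSheaf_iff_isSheaf_of_type _ _).1 F.property))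

/-- smooth surjective maps have sections etale locally -/
theorem exists_etale_lifts {Q : Sp S} (hQ : IsAlgSpace Q) {T : Over S} (snd : Q ⟶ (yon S).obj T)
    (hs : IsSurjectiveMor snd) (hl : LocP @Smooth snd) (t : ↥T.left) :
    ∃ (V : Over S) (g : V ⟶ T) (l : (yon S).obj V ⟶ Q),
      Etale g.left ∧ t ∈ Set.range g.left ∧ l ≫ snd = (yon S).map g := by
  obtain ⟨W, w, hwe, hws⟩ := hQ.atlas
  obtain ⟨h, hh⟩ := exists_map_eq (w ≫ snd)
  have : Smooth h.left := hl w (𝟙 _) h hwe repWith_id' (by rw [hh, Category.comp_id])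
  obtain ⟨z, hz⟩ := hs (Points.ofScheme T t)
  obtain ⟨v, rfl⟩ := ofPt_surjective hws z
  obtain rfl : h.left v = t := (Points.schemeEquiv T).injective (by
    change Points.ofScheme T (h.left v) = Points.ofScheme T t
    rw [← ofScheme_map, hh, ← Points.map_ofPt, hz])
  obtain ⟨S', g, s', hg, hgs, k, hk⟩ := SmSect.exists_etale_section h.left v
  let kk : Over.mk (g ≫ T.hom) ⟶ W := Over.homMk k (by
    show k ≫ W.hom = g ≫ T.hom
    rw [← Over.w h, ← Category.assoc, hk])
  refine ⟨Over.mk (g ≫ T.hom), Over.homMk g rfl, (yon S).map kk ≫ w, hg, ⟨s', hgs⟩, ?_⟩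
  rw [Category.assoc, ← hh, ← Functor.map_comp]
  congr 1
  exact Over.OverMorphism.ext hk

/-- a map with lifts along etale covers is locally surjective for the etale topology -/
theorem isLocallySurjective_jet {G F : PSp S} (p : G ⟶ F)
    (hp : ∀ ⦃T : Over S⦄ (ξ : (pyon S).obj T ⟶ F) (t : ↥T.left), ∃ (V : Over S) (g : V ⟶ T)
      (l : (pyon S).obj V ⟶ G), Etale g.left ∧ t ∈ Set.range g.left ∧ l ≫ p = (pyon S).map g ≫ ξ) :
    Presheaf.IsLocallySurjective (Jet S) p := by
  constructor
  intro T σ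
  choose V g l hg ht hl using hp (sEq.symm σ)
  have hcov : Presieve.ofArrows (fun t => (V t).left) (fun t => (g t).left) ∈ Scheme.etalePrecoverage T.left := by
    rw [Scheme.etalePrecoverage, Scheme.ofArrows_mem_precoverage_iff]
    exact ⟨fun x => ⟨x, ht x⟩, hg⟩
  rw [GrothendieckTopology.mem_over_iff]
  refine Scheme.etalePrecoverage.toGrothendieck.superset_covering ?_ (Precoverage.generate_mem_toGrothendieck hcov)
  rintro Z _ ⟨W, a, _, ⟨t⟩, rfl⟩
  rw [Sieve.overEquiv_iff]
  let a' : Over.mk ((a ≫ (g t).left) ≫ T.hom) ⟶ V t := Over.homMk a (by simp)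
  refine ⟨G.map a'.op (sEq (l t)), ?_⟩
  have e : p.app (op (V t)) (sEq (l t)) = F.map (g t).op σ := by
    rw [← sEq_comp, hl]
    apply sEq.symm.injective
    rw [Equiv.symm_apply_apply, pyon_map_naturality]
  rw [NatTrans.naturality_apply, e, ← Functor.map_comp_apply, ← op_comp]
  congr

/-- an etale sheaf with a smooth surjective cover by an algebraic space is an algebraic space -/
theorem isAlgSpaceP_of_smooth_cover {F : PSp S} (h1 : Presheaf.IsSheaf (Jet S) F) {U : Sp S} (hU : IsAlgSpace U)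
    (p : U.obj ⟶ F) (hp : RepBySpWith (IsSurjectiveMor ⊓ LocP @Smooth) p) : IsAlgSpaceP F := by
  -- the relation
  have hR := isAlgSpaceP_of_repBySp
    ((RepBySp (S := S)).of_isPullback (IsPullback.of_hasPullback p p) hp.repBySp)
    ((isAlgSpaceP_obj_iff U).2 hU)
  obtain ⟨hRs, hRa⟩ := hR
  let R : Sp S := ⟨pullback p p, hRs⟩
  let t : R ⟶ U := ObjectProperty.homMk (pullback.fst p p)
  let s : R ⟶ U := ObjectProperty.homMk (pullback.snd p p)
  have key : ∀ (t' s' : R ⟶ U), IsPullback t'.hom s'.hom p p → LocP @Smooth s' := by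
    intro t' s' hk W V a b h ha hb comm
    have sqP := IsPullback.of_hasPullback p (b.hom ≫ p)
    obtain ⟨hsh, hPa, -, hPl⟩ := hp (b.hom ≫ p) _ _ sqP
    let P : Sp S := ⟨pullback p (b.hom ≫ p), hsh⟩
    let snd : P ⟶ (yon S).obj V := ObjectProperty.homMk (pullback.snd p (b.hom ≫ p))
    let pr₀ := hk.lift (pullback.fst p (b.hom ≫ p)) (pullback.snd p (b.hom ≫ p) ≫ b.hom)
      (by rw [Category.assoc]; exact sqP.w)
    let pr : P ⟶ R := ObjectProperty.homMk pr₀
    have sq : IsPullback pr snd s' b := by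
      refine IsPullback.of_map_of_faithful (sheafToPresheaf (J S) (Type (u + 1))) ?_
      show IsPullback pr₀ (pullback.snd p (b.hom ≫ p)) s'.hom b.hom
      refine IsPullback.of_right ?_ (hk.lift_snd _ _ _) hk
      rw [hk.lift_fst]
      exact sqP
    let l := sq.lift a ((yon S).map h) comm
    have hle : RepWith @Etale l := by
      refine repWith_etale_of_comp hPa hRa (g := pr) ?_ (isEtaleMor_of_repWith' (repWith_baseChange sq.flip hb))
      rw [sq.lift_fst]
      exact ha
    exact hPl l (𝟙 _) h hle repWith_id' (by rw [sq.lift_snd, Category.comp_id])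
  have hfl : ∀ {f : R ⟶ U}, LocP @Smooth f → LocP @Flat f ∧ LocP @LocallyOfFinitePresentation f :=
    fun hf => ⟨fun _ _ a b h ha hb e => have : Smooth h.left := hf a b h ha hb e; inferInstance,
      fun _ _ a b h ha hb e => have : Smooth h.left := hf a b h ha hb e; inferInstance⟩
  have hs : LocP @Smooth s := key t s (IsPullback.of_hasPullback p p)
  have ht : LocP @Smooth t := key s t (IsPullback.of_hasPullback p p).flip
  have hrel : ∀ (T : Over S) (a b : (yon S).obj T ⟶ U), (∃ r, r ≫ t = a ∧ r ≫ s = b) ↔ a.hom ≫ p = b.hom ≫ p := by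
    intro T a b
    constructor
    · rintro ⟨r, rfl, rfl⟩
      show (r.hom ≫ pullback.fst p p) ≫ p = (r.hom ≫ pullback.snd p p) ≫ p
      rw [Category.assoc, Category.assoc, pullback.condition]
    · exact fun e => ⟨ObjectProperty.homMk (pullback.lift _ _ e), ObjectProperty.hom_ext _ (pullback.lift_fst _ _ _),
        ObjectProperty.hom_ext _ (pullback.lift_snd _ _ _)⟩
  have heqv : IsEqvRelSp s t :=
    ⟨fun T r r' e₁ e₂ => ObjectProperty.hom_ext _ (pullback.hom_ext
      (congrArg (fun k : (yon S).obj T ⟶ U => k.hom) e₁) (congrArg (fun k : (yon S).obj T ⟶ U => k.hom) e₂)),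
    fun T => { refl := fun a => (hrel T a a).2 rfl
               symm := fun {a b} e => (hrel T b a).2 ((hrel T a b).1 e).symm
               trans := fun {a b c} e e' => (hrel T a c).2 (((hrel T a b).1 e).trans ((hrel T b c).1 e')) }⟩
  -- the quotient
  have hX := isAlgSpace_quotSp hRa hU heqv (hfl hs) (hfl ht)
  let π : U ⟶ quotSp s t := quotSpπ s t
  have hπ : LocP @Smooth π := locP_quotSpπ @Smooth etST_smooth hRa hU heqv hX hs
  -- both are quotients for the etale topology
  let Fe : Sheaf (Jet S) (Type (u + 1)) := ⟨F, h1⟩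
  let Ue : Sheaf (Jet S) (Type (u + 1)) := ⟨U.obj, isSheaf_jet U⟩
  let Xe : Sheaf (Jet S) (Type (u + 1)) := ⟨(quotSp s t).obj, isSheaf_jet _⟩
  let Re : Sheaf (Jet S) (Type (u + 1)) := ⟨R.obj, isSheaf_jet R⟩
  let te : Re ⟶ Ue := ObjectProperty.homMk t.hom
  let se : Re ⟶ Ue := ObjectProperty.homMk s.hom
  let pe : Ue ⟶ Fe := ObjectProperty.homMk p
  let πe : Ue ⟶ Xe := ObjectProperty.homMk π.hom
  have : Sheaf.IsLocallySurjective pe := isLocallySurjective_jet p fun T ξ x => by
    obtain ⟨hsh, hPa, hPs, hPl⟩ := hp ξ _ _ (IsPullback.of_hasPullback p ξ)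
    obtain ⟨V, g, l, hg, hx, hl⟩ := exists_etale_lifts (Q := ⟨_, hsh⟩) hPa _ hPs hPl x
    refine ⟨V, g, l.hom ≫ pullback.fst p ξ, hg, hx, ?_⟩
    rw [Category.assoc, pullback.condition, ← Category.assoc]
    exact congrArg (· ≫ ξ) (congrArg (fun k : (yon S).obj V ⟶ (yon S).obj T => k.hom) hl)
  have : Sheaf.IsLocallySurjective πe := isLocallySurjective_jet π.hom fun T ξ x => by
    let ξ' : (yon S).obj T ⟶ quotSp s t := ObjectProperty.homMk ξ
    have sq := IsPullback.of_hasPullback π ξ'
    have hPa := isAlgSpace_of_isPullback_space hX hU (IsAlgSpace.yon_obj T) sq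
    obtain ⟨V, g, l, hg, hx, hl⟩ := exists_etale_lifts hPa _
      (isSurjectiveMor_baseChange sq isSurjectiveMor_quotSpπ)
      (locP_baseChange etST_smooth hU hX hPa (IsAlgSpace.yon_obj T) sq hπ) x
    refine ⟨V, g, (l ≫ pullback.fst π ξ').hom, hg, hx, ?_⟩
    have e : (l ≫ pullback.fst π ξ') ≫ π = (yon S).map g ≫ ξ' := by
      rw [Category.assoc, pullback.condition, reassoc_of% hl]
    exact congrArg (fun k : (yon S).obj V ⟶ quotSp s t => k.hom) e
  have hkF : IsKernelPair pe te se := IsPullback.of_map_of_faithful (sheafToPresheaf (Jet S) (Type (u + 1)))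
    (IsPullback.of_hasPullback p p)
  have hkX : IsKernelPair πe te se := IsPullback.of_map_of_faithful (sheafToPresheaf (Jet S) (Type (u + 1)))
    ((isPullback_quotSp s t heqv).map (sheafToPresheaf (J S) (Type (u + 1))))
  have : Epi pe := inferInstance
  have : Epi πe := inferInstance
  have : IsRegularEpi pe := IsRegularEpiCategory.regularEpiOfEpi pe
  have : IsRegularEpi πe := IsRegularEpiCategory.regularEpiOfEpi πe
  let e : Xe ≅ Fe := hkX.toCoequalizer'.coconePointUniqueUpToIso hkF.toCoequalizer'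
  exact ((isAlgSpaceP_obj_iff _).2 hX).of_iso ((sheafToPresheaf (Jet S) (Type (u + 1))).mapIso e)

end Groth.Agent.Bootstrap
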