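import Groth.Agent.AlgSpLib.Quot
import Groth.Prelude.Def_AlgSpGpd
import Mathlib

/-!
Equivalence relations of sheaves: the quotient has the relation as kernel pair.
-/

set_option autoImplicit false
set_option backward.isDefEq.respectTransparency false

universe u

open CategoryTheory CategoryTheory.Limits AlgebraicGeometry Opposite

namespace Groth.Agent.Bootstrap

open _root_.AlgSp Groth.Agent.AlgSpLib

variable {S : Scheme.{u}} {R U : Sp S} (s t : R ⟶ U)

/-- the relation on points -/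
def RelSp (T : Over S) (a b : (yon S).obj T ⟶ U) : Prop := ∃ r : (yon S).obj T ⟶ R, r ≫ t = a ∧ r ≫ s = b

/-- the quotient presheaf -/
noncomputable def preQuotSp : (Over S)ᵒᵖ ⥤ Type (u + 1) where
  obj T := Quot (RelSp s t T.unop)
  map {T T'} f := ↾Quot.map (fun a => (yon S).map f.unop ≫ a)
    (fun a b ⟨r, h₁, h₂⟩ => ⟨(yon S).map f.unop ≫ r, by rw [Category.assoc, h₁], by rw [Category.assoc, h₂]⟩)
  map_id T := by
    ext x
    induction x using Quot.ind
    simp [Quot.map]
  map_comp f g := by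
    ext x
    induction x using Quot.ind
    simp [Quot.map]

theorem isPullback_quotSp (h : IsEqvRelSp s t) :
    IsPullback t s (quotSpπ s t) (quotSpπ s t) := by
  let p := quotSpπ s t
  let Q : Sp S := (presheafToSheaf (J S) (Type (u + 1))).obj (preQuotSp s t)
  let γ₀ : U.obj ⟶ preQuotSp s t :=
    { app := fun T => ↾fun x => Quot.mk _ ((J S).uliftYonedaEquiv.symm x)
      naturality := fun T T' f => by
        ext x
        exact congrArg (Quot.mk _) ((J S).uliftYonedaEquiv_symm_naturality_left f.unop U x).symm }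
  let γ : U ⟶ Q := ObjectProperty.homMk (γ₀ ≫ toSheafify (J S) (preQuotSp s t))
  have hγ : ∀ {T : Over S} (a : (yon S).obj T ⟶ U), (J S).uliftYonedaEquiv (a ≫ γ) =
      (toSheafify (J S) (preQuotSp s t)).app (op T) (Quot.mk _ a) := by
    intro T a
    rw [uliftYonedaEquiv_comp']
    show (toSheafify (J S) (preQuotSp s t)).app (op T) (Quot.mk _ ((J S).uliftYonedaEquiv.symm _)) = _
    rw [Equiv.symm_apply_apply]
  have hγw : s ≫ γ = t ≫ γ := by
    refine (J S).hom_ext_uliftYoneda.{u + 1} fun X x => ?_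
    apply (J S).uliftYonedaEquiv.injective
    rw [← Category.assoc, ← Category.assoc, hγ, hγ]
    exact congrArg _ (Quot.sound ⟨x, rfl, rfl⟩).symm
  let φ : quotSp s t ⟶ Q := quotSpDesc γ hγw
  have hφ : p ≫ φ = γ := quotSpπ_desc _ _ _ _
  refine isPullback_of_points (quotSp_condition s t).symm fun T a b hab => ?_
  have heq : (toSheafify (J S) (preQuotSp s t)).app (op T) (Quot.mk _ a) =
      (toSheafify (J S) (preQuotSp s t)).app (op T) (Quot.mk _ b) := by
    rw [← hγ, ← hγ, ← hφ, ← Category.assoc, hab, Category.assoc]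
  have hS := Presheaf.equalizerSieve_mem (J S) (toSheafify (J S) (preQuotSp s t)) _ _ heq
  let Sv := Presheaf.equalizerSieve (F := preQuotSp s t) (X := op T) (Quot.mk _ a) (Quot.mk _ b)
  have hex : ∀ ⦃Z : Over S⦄ (g : Z ⟶ T), Sv g → ∃ r : (yon S).obj Z ⟶ R,
      r ≫ t = (yon S).map g ≫ a ∧ r ≫ s = (yon S).map g ≫ b := by
    intro Z g hg
    have h1 : Quot.mk (RelSp s t Z) ((yon S).map g ≫ a) = Quot.mk (RelSp s t Z) ((yon S).map g ≫ b) := hg
    have heqv : Equivalence (RelSp s t Z) := h.equivalence Z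
    rw [Quot.eq, heqv.eqvGen_iff] at h1
    exact h1
  choose r hr₁ hr₂ using hex
  let x : Presieve.FamilyOfElements R.obj Sv.arrows := fun Z g hg => (J S).uliftYonedaEquiv (r g hg)
  have hx : x.Compatible := fun Z₁ Z₂ Z g₁ g₂ f₁ f₂ h₁ h₂ e => by
    have e' : (yon S).map g₁ ≫ r f₁ h₁ = (yon S).map g₂ ≫ r f₂ h₂ := by
      refine h.injective _ _ _ ?_ ?_
      · rw [Category.assoc, Category.assoc, hr₁, hr₁, ← Category.assoc, ← Category.assoc, ← Functor.map_comp,
          ← Functor.map_comp, e]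
      · rw [Category.assoc, Category.assoc, hr₂, hr₂, ← Category.assoc, ← Category.assoc, ← Functor.map_comp,
          ← Functor.map_comp, e]
    refine ((J S).uliftYonedaEquiv_naturality (r f₁ h₁) g₁).trans ((congrArg _ e').trans ?_)
    exact ((J S).uliftYonedaEquiv_naturality (r f₂ h₂) g₂).symm
  obtain ⟨ρ, hρ, -⟩ := ((isSheaf_iff_isSheaf_of_type _ _).1 R.property) Sv hS x hx
  let ρ' : (yon S).obj T ⟶ R := (J S).uliftYonedaEquiv.symm ρ
  have hρ' : ∀ ⦃Z : Over S⦄ (g : Z ⟶ T) (hg : Sv g), (yon S).map g ≫ ρ' = r g hg := fun Z g hg => by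
    apply (J S).uliftYonedaEquiv.injective
    rw [← GrothendieckTopology.uliftYonedaEquiv_naturality, Equiv.apply_symm_apply]
    exact hρ g hg
  have key : ∀ (c : R ⟶ U) (a : (yon S).obj T ⟶ U),
      (∀ ⦃Z : Over S⦄ (g : Z ⟶ T) (hg : Sv g), r g hg ≫ c = (yon S).map g ≫ a) → ρ' ≫ c = a := by
    intro c a hc
    apply (J S).uliftYonedaEquiv.injective
    refine (((isSheaf_iff_isSheaf_of_type _ _).1 U.property) Sv hS).isSeparatedFor.ext fun Z g hg => ?_
    rw [GrothendieckTopology.uliftYonedaEquiv_naturality, GrothendieckTopology.uliftYonedaEquiv_naturality,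
      ← Category.assoc, hρ' g hg, hc g hg]
  exact ⟨ρ', ⟨key t a hr₁, key s b hr₂⟩, fun c ⟨h1, h2⟩ => h.injective _ _ _
    (h1.trans (key t a hr₁).symm) (h2.trans (key s b hr₂).symm)⟩

end Groth.Agent.Bootstrap
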