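import Groth.Agent.Bootstrap.Cover
import Groth.Agent.Bootstrap.Effective
import Mathlib

/-!
Quotients of algebraic spaces by flat, locally finitely presented equivalence relations.
-/

set_option autoImplicit false
set_option linter.style.haveILetI false
set_option backward.isDefEq.respectTransparency false

universe u

open CategoryTheory CategoryTheory.Limits AlgebraicGeometry
open Groth.Agent.AlgSpLib AlgSp

namespace Groth.Agent.Bootstrap

variable {S : Scheme.{u}} {R U : Sp S} {s t : R ⟶ U}

theorem isLocallySurjective_of_atlas {X : Sp S} {U₀ : Over S} {π : (yon S).obj U₀ ⟶ X}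
    (he : RepWith @Etale π) (hs : RepWith @Surjective π) : Sheaf.IsLocallySurjective π :=
  isLocallySurjective_of_repWith π (repWith_mono (fun _ _ f hf => (flat_lfp_of_etale f hf).1) he)
    (repWith_mono (fun _ _ f hf => (flat_lfp_of_etale f hf).2) he) hs

theorem epi_quotSpπ : Epi (quotSpπ s t) := inferInstanceAs (Epi (coequalizer.π s t))

/-- the quotient of an algebraic space by a flat lfp equivalence relation is an algebraic space -/
theorem isAlgSpace_quotSp (hR : IsAlgSpace R) (hU : IsAlgSpace U) (h : IsEqvRelSp s t)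
    (hs : LocP @Flat s ∧ LocP @LocallyOfFinitePresentation s)
    (ht : LocP @Flat t ∧ LocP @LocallyOfFinitePresentation t) : IsAlgSpace (quotSp s t) := by
  obtain ⟨U₀, π, hπe, hπs⟩ := hU.atlas
  let q := quotSpπ s t
  haveI hls := isLocallySurjective_of_atlas hπe hπs
  haveI : Epi π := (Sheaf.isLocallySurjective_iff_epi π).1 hls
  haveI : Epi q := epi_quotSpπ
  haveI : Sheaf.IsLocallySurjective (π ≫ q) := (Sheaf.isLocallySurjective_iff_epi _).2 (epi_comp _ _)
  have sq₁ := IsPullback.of_hasPullback π t
  let σ := pullback.snd π t ≫ s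
  have sqA : IsPullback (pullback.fst π t) σ (π ≫ q) q :=
    (sq₁.flip.paste_horiz (isPullback_quotSp s t h).flip).flip
  have sq₂ := IsPullback.of_hasPullback σ π
  have sqK : IsPullback (pullback.fst σ π ≫ pullback.fst π t) (pullback.snd σ π) (π ≫ q) (π ≫ q) :=
    (sq₂.flip.paste_vert sqA.flip).flip
  have hK₁ : IsAlgSpace (pullback π t) := isAlgSpace_of_isPullback_space hU (IsAlgSpace.yon_obj U₀) hR sq₁
  have hK : IsAlgSpace (pullback σ π) := isAlgSpace_of_isPullback_space hU hK₁ (IsAlgSpace.yon_obj U₀) sq₂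
  let e : pullback σ π ⟶ R := pullback.fst σ π ≫ pullback.snd π t
  have he : RepWith @Etale e :=
    repWith_comp (repWith_baseChange sq₂.flip hπe) (repWith_baseChange sq₁ hπe)
  refine isAlgSpace_of_kernelPair (π ≫ q) sqK hK (fun W a k ha ek => ?_) (fun W a k ha ek => ?_)
  · have comm : (a ≫ e) ≫ s = (yon S).map k ≫ π := by
      rw [← ek, Category.assoc, Category.assoc, Category.assoc, ← sq₂.w]
    exact ⟨hs.1 _ π k (repWith_comp ha he) hπe comm, hs.2 _ π k (repWith_comp ha he) hπe comm⟩
  · have comm : (a ≫ e) ≫ t = (yon S).map k ≫ π := by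
      rw [← ek, Category.assoc, Category.assoc, Category.assoc, Category.assoc, sq₁.w]
    exact ⟨ht.1 _ π k (repWith_comp ha he) hπe comm, ht.2 _ π k (repWith_comp ha he) hπe comm⟩

/-- the quotient map is surjective -/
theorem isSurjectiveMor_quotSpπ : IsSurjectiveMor (quotSpπ s t) := fun y => by
  haveI : Epi (quotSpπ s t) := epi_quotSpπ
  haveI : Sheaf.IsLocallySurjective (quotSpπ s t) := (Sheaf.isLocallySurjective_iff_epi _).2 inferInstance
  obtain ⟨T, ξ, x, rfl⟩ := exists_ofPt y
  obtain ⟨T', g, l, _, hgs, _, hl⟩ := exists_fppf_lift (quotSpπ s t) ξ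
  obtain ⟨x', rfl⟩ := g.left.surjective x
  exact ⟨Points.ofPt l x', by rw [Points.map_ofPt, hl, ofPt_comp]⟩

/-- properties of the quotient map that descend -/
theorem locP_quotSpπ (P : MorphismProperty Scheme.{u}) (hP : EtST P)
    [P.IsLocalAtTarget Scheme.fppfPrecoverage] (hR : IsAlgSpace R) (hU : IsAlgSpace U) (h : IsEqvRelSp s t)
    (hF : IsAlgSpace (quotSp s t)) (hs : LocP P s) : LocP P (quotSpπ s t) := by
  intro W V a b k ha hb comm
  let p := quotSpπ s t
  haveI : Epi p := epi_quotSpπ
  haveI : Sheaf.IsLocallySurjective p := (Sheaf.isLocallySurjective_iff_epi _).2 inferInstance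
  -- the chart of the fibre product
  have sqA := IsPullback.of_hasPullback p b
  have hA : IsAlgSpace (pullback p b) := isAlgSpace_of_isPullback_space hF hU (IsAlgSpace.yon_obj V) sqA
  let e := pullback.lift a ((yon S).map k) comm
  have hee : RepWith @Etale e := by
    refine repWith_etale_of_comp hA hU ?_ (isEtaleMor_of_repWith' (repWith_baseChange sqA.flip hb))
    rw [pullback.lift_fst]; exact ha
  -- the cover
  obtain ⟨V', g, l, _, _, _, hl⟩ := exists_fppf_lift p b
  let W' : Over S := Over.mk (pullback.fst k.left g.left ≫ W.hom)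
  let w₁ : W' ⟶ W := Over.homMk (pullback.fst k.left g.left) rfl
  let w₂ : W' ⟶ V' := Over.homMk (pullback.snd k.left g.left) (by
    show pullback.snd k.left g.left ≫ V'.hom = pullback.fst k.left g.left ≫ W.hom
    rw [← Over.w k, ← Over.w g, pullback.condition_assoc])
  have sqW : IsPullback ((yon S).map w₁) ((yon S).map w₂) ((yon S).map k) ((yon S).map g) :=
    isPullback_yon_iff.2 (IsPullback.of_hasPullback k.left g.left)
  have sqA' := IsPullback.of_hasPullback (pullback.snd p b) ((yon S).map g)
  let A' := pullback (pullback.snd p b) ((yon S).map g)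
  let e' : (yon S).obj W' ⟶ A' := pullback.lift ((yon S).map w₁ ≫ e) ((yon S).map w₂)
    (by rw [Category.assoc, pullback.lift_snd]; exact sqW.w)
  have hbig : IsPullback (pullback.fst _ _ ≫ pullback.fst p b) (pullback.snd _ _ : A' ⟶ _) p (l ≫ p) := by
    rw [hl]
    exact (sqA'.flip.paste_vert sqA.flip).flip
  have hA' : IsAlgSpace A' :=
    isAlgSpace_of_isPullback_space (IsAlgSpace.yon_obj V) hA (IsAlgSpace.yon_obj V') sqA'
  have sqe : IsPullback ((yon S).map w₁) e' e (pullback.fst _ _) := by
    refine IsPullback.of_bot ?_ (pullback.lift_fst _ _ _).symm sqA'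
    rw [pullback.lift_snd, pullback.lift_snd]
    exact sqW
  have hee' : RepWith @Etale e' := repWith_baseChange sqe hee
  -- it is a base change of `s`
  obtain ⟨r, hr⟩ : ∃ r : A' ⟶ R, IsPullback r (pullback.snd _ _ : A' ⟶ _) s l := by
    have hk := (isPullback_quotSp s t h)
    refine ⟨hk.lift (pullback.fst _ _ ≫ pullback.fst p b) (pullback.snd _ _ ≫ l)
      (hbig.w.trans (Category.assoc _ _ _).symm), ?_⟩
    refine IsPullback.of_right ?_ (hk.lift_snd _ _ _) hk
    rw [IsPullback.lift_fst]
    exact hbig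
  have hsnd : LocP P (pullback.snd _ _ : A' ⟶ _) :=
    locP_baseChange hP hR hU hA' (IsAlgSpace.yon_obj V') hr hs
  have h₂ : P w₂.left := hsnd e' (𝟙 _) w₂ hee' repWith_id' (by rw [Category.comp_id, pullback.lift_snd])
  exact MorphismProperty.IsLocalAtTarget.of_forall_pullbackSnd (K := Scheme.fppfPrecoverage)
    g.left.singleton_mem_fppfPrecoverage fun {Z g'} _ hg' => by obtain ⟨⟩ := hg'; exact h₂

end Groth.Agent.Bootstrap
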