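import Groth.Agent.Bootstrap.Split
import Mathlib

/-!
Etale charts of the quotient of a quasi-finite flat equivalence relation.
-/

set_option autoImplicit false
set_option linter.style.haveILetI false
set_option backward.isDefEq.respectTransparency false

universe u

open CategoryTheory CategoryTheory.Limits AlgebraicGeometry
open Groth.Agent.AlgSpLib AlgSp

namespace Groth.Agent.Bootstrap

variable {S : Scheme.{u}}

/-- cartesian squares over `S` tested on points -/
theorem isPullback_over {A B C D : Over S} {f₁ : A ⟶ B} {f₂ : A ⟶ C} {g₁ : B ⟶ D} {g₂ : C ⟶ D}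
    (w : f₁ ≫ g₁ = f₂ ≫ g₂)
    (hex : ∀ {T : Over S} (x : T ⟶ B) (y : T ⟶ C), x ≫ g₁ = y ≫ g₂ → ∃ z : T ⟶ A, z ≫ f₁ = x ∧ z ≫ f₂ = y)
    (huniq : ∀ {T : Over S} (z z' : T ⟶ A), z ≫ f₁ = z' ≫ f₁ → z ≫ f₂ = z' ≫ f₂ → z = z') :
    IsPullback f₁ f₂ g₁ g₂ := by
  refine ⟨⟨w⟩, ⟨PullbackCone.IsLimit.mk _ (fun c => (hex c.fst c.snd c.condition).choose)
    (fun c => (hex c.fst c.snd c.condition).choose_spec.1) (fun c => (hex c.fst c.snd c.condition).choose_spec.2)
    (fun c m h₁ h₂ => huniq _ _ (h₁.trans (hex c.fst c.snd c.condition).choose_spec.1.symm)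
      (h₂.trans (hex c.fst c.snd c.condition).choose_spec.2.symm))⟩⟩

variable {R U : Over S} {s t : R ⟶ U}

theorem exists_chart (h : AlgSp.IsEqvRel s t) [Flat s.left] [LocallyOfFinitePresentation s.left]
    [LocallyQuasiFinite s.left] [Flat t.left] [LocallyOfFinitePresentation t.left] [LocallyQuasiFinite t.left]
    (u : U.left) :
    ∃ (V : Over S) (q : (yon S).obj V ⟶ QuotSh.quot Scheme.fppfPrecoverage s t),
      ∀ (Z : Over S) (a : Z ⟶ V) (b : Z ⟶ U), IsPullback ((yon S).map a) ((yon S).map b) q (quotProj s t) →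
        Etale b.left ∧ u ∈ Set.range b.left := by
  obtain ⟨U', V, P, g, φ, p₁, p₂, hgfl, hgfp, hφfin, hφfl, hφfp, hφs, hu, hP, hrel, hopen⟩ :=
    exists_quotient_data h u
  let p := quotProj s t
  have hΔ := representable_diag h
  have hP' : IsPullback p₁ p₂ φ φ := by
    have : IsPullback ((Over.forget S).map p₁) ((Over.forget S).map p₂) ((Over.forget S).map φ)
        ((Over.forget S).map φ) := hP
    exact IsPullback.of_map (Over.forget S) (Over.OverMorphism.ext hP.w) this
  -- the chart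
  obtain ⟨q, hq⟩ := exists_desc φ ((yon S).map g ≫ p) fun T x y e => by
    obtain ⟨z, hz₁, hz₂⟩ : ∃ z : T ⟶ P, z ≫ p₁ = x ∧ z ≫ p₂ = y :=
      ⟨hP'.lift x y e, IsPullback.lift_fst _ _ _ _, IsPullback.lift_snd _ _ _ _⟩
    rw [← hz₁, ← hz₂, Functor.map_comp, Functor.map_comp, Category.assoc, Category.assoc, hrel]
  refine ⟨V, q, fun Z a b sq => ?_⟩
  -- the map from the slice
  let W : Over S := Over.mk (pullback.fst g.left t.left ≫ U'.hom)
  let π₁ : W ⟶ U' := Over.homMk (pullback.fst g.left t.left) rfl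
  let π₂ : W ⟶ R := Over.homMk (pullback.snd g.left t.left) (by
    show pullback.snd g.left t.left ≫ R.hom = pullback.fst g.left t.left ≫ U'.hom
    rw [← Over.w t, ← pullback.condition_assoc, Over.w g])
  have sqW₀ : IsPullback ((yon S).map π₁) ((yon S).map π₂) ((yon S).map g) ((yon S).map t) :=
    isPullback_yon_iff.2 (IsPullback.of_hasPullback g.left t.left)
  have sqW : IsPullback ((yon S).map (π₂ ≫ s)) ((yon S).map π₁) p ((yon S).map g ≫ p) := by
    rw [Functor.map_comp]
    exact sqW₀.flip.paste_horiz (isPullback_quot h).flip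
  obtain ⟨c, hc⟩ := exists_map_eq (sq.lift ((yon S).map (π₁ ≫ φ)) ((yon S).map (π₂ ≫ s)) (by
    rw [Functor.map_comp, Category.assoc, hq]; exact sqW.w.symm))
  have hc₁ : (yon S).map c ≫ (yon S).map a = (yon S).map (π₁ ≫ φ) := by rw [hc, IsPullback.lift_fst]
  have hc₂ : (yon S).map c ≫ (yon S).map b = (yon S).map (π₂ ≫ s) := by rw [hc, IsPullback.lift_snd]
  have hcb : c ≫ b = π₂ ≫ s := (yon S).map_injective (by rw [Functor.map_comp, hc₂])
  have sqc : IsPullback c.left π₁.left a.left φ.left := by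
    refine isPullback_yon_iff.1 (IsPullback.of_right ?_ (hc₁.trans ((yon S).map_comp _ _)) sq.flip)
    rw [hc₂, hq]; exact sqW
  haveI : Flat c.left := MorphismProperty.of_isPullback (P := @Flat) sqc.flip hφfl
  haveI : LocallyOfFinitePresentation c.left :=
    MorphismProperty.of_isPullback (P := @LocallyOfFinitePresentation) sqc.flip hφfp
  haveI : Surjective c.left := MorphismProperty.of_isPullback (P := @Surjective) sqc.flip hφs
  have hcb' : c.left ≫ b.left = pullback.snd g.left t.left ≫ s.left := congrArg CommaMorphism.left hcb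
  haveI : Flat (pullback.snd g.left t.left) := MorphismProperty.pullback_snd (P := @Flat) _ _ hgfl
  haveI : LocallyOfFinitePresentation (pullback.snd g.left t.left) :=
    MorphismProperty.pullback_snd (P := @LocallyOfFinitePresentation) _ _ hgfp
  haveI : Flat (c.left ≫ b.left) := by rw [hcb']; infer_instance
  haveI : LocallyOfFinitePresentation (c.left ≫ b.left) := by rw [hcb']; infer_instance
  haveI : Flat b.left := flat_of_comp c.left b.left
  haveI : LocallyOfFinitePresentation b.left := FppfSource.lfp c.left b.left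
  refine ⟨?_, ?_⟩
  swap
  · obtain ⟨u', rfl⟩ := hu
    obtain ⟨r, hr₁, hr₂⟩ := SliceEqv.exists_unit h (𝟙 U.left)
    obtain ⟨w, -, hw⟩ := Scheme.Pullback.exists_preimage_pullback (f := g.left) (g := t.left) u' (r (g.left u'))
      (congr($hr₁ (g.left u'))).symm
    refine ⟨c.left w, ?_⟩
    rw [← Scheme.Hom.comp_apply, hcb', Scheme.Hom.comp_apply]
    exact (congrArg s.left hw).trans (congr($hr₂ (g.left u')))
  -- unramifiedness: the diagonal of the chart is an open immersion
  obtain ⟨K₀, k₁, k₂, sqK₀⟩ := exists_pullback hΔ q q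
  obtain ⟨L, l₁, l₂, sqL⟩ := exists_pullback hΔ ((yon S).map g ≫ p) q
  obtain ⟨K, a₁, a₂, sqK⟩ := exists_pullback hΔ ((yon S).map g ≫ p) ((yon S).map g ≫ p)
  obtain ⟨m, hm, hm₁, hm₂⟩ := hopen K a₁ a₂ sqK
  obtain ⟨c₁, hc₁'⟩ := exists_map_eq (sqL.lift ((yon S).map a₁) ((yon S).map (a₂ ≫ φ)) (by
    rw [Functor.map_comp, Category.assoc, hq]; exact sqK.w))
  have hc₁a : (yon S).map c₁ ≫ (yon S).map l₁ = (yon S).map a₁ := by rw [hc₁', IsPullback.lift_fst]
  have hc₁b : (yon S).map c₁ ≫ (yon S).map l₂ = (yon S).map (a₂ ≫ φ) := by rw [hc₁', IsPullback.lift_snd]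
  have sqc₁ : IsPullback c₁.left a₂.left l₂.left φ.left := by
    refine isPullback_yon_iff.1 (IsPullback.of_right ?_ (hc₁b.trans ((yon S).map_comp _ _)) sqL)
    rw [hc₁a, hq]; exact sqK
  obtain ⟨c₂, hc₂'⟩ := exists_map_eq (sqK₀.lift ((yon S).map (l₁ ≫ φ)) ((yon S).map l₂) (by
    rw [Functor.map_comp, Category.assoc, hq]; exact sqL.w))
  have hc₂a : (yon S).map c₂ ≫ (yon S).map k₁ = (yon S).map (l₁ ≫ φ) := by rw [hc₂', IsPullback.lift_fst]
  have hc₂b : (yon S).map c₂ ≫ (yon S).map k₂ = (yon S).map l₂ := by rw [hc₂', IsPullback.lift_snd]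
  have sqc₂ : IsPullback c₂.left l₁.left k₁.left φ.left := by
    refine isPullback_yon_iff.1 (IsPullback.of_right ?_ (hc₂a.trans ((yon S).map_comp _ _)) sqK₀.flip)
    rw [hc₂b, hq]; exact sqL.flip
  let e := c₁ ≫ c₂
  have he₁ : e ≫ k₁ = a₁ ≫ φ := (yon S).map_injective (by
    rw [Functor.map_comp, Functor.map_comp, Category.assoc, hc₂a, Functor.map_comp, reassoc_of% hc₁a,
      Functor.map_comp])
  have he₂ : e ≫ k₂ = a₂ ≫ φ := (yon S).map_injective (by
    rw [Functor.map_comp, Functor.map_comp, Category.assoc, hc₂b, hc₁b])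
  haveI : IsFinite φ.left := hφfin
  have he : (@Surjective ⊓ @Flat ⊓ @QuasiCompact : MorphismProperty Scheme.{u}) e.left := by
    have h₁ : (@Surjective ⊓ @Flat ⊓ @QuasiCompact : MorphismProperty Scheme.{u}) φ.left :=
      ⟨⟨hφs, hφfl⟩, inferInstance⟩
    exact MorphismProperty.comp_mem _ _ _ (MorphismProperty.of_isPullback sqc₁.flip h₁)
      (MorphismProperty.of_isPullback sqc₂.flip h₁)
  obtain ⟨d, hd⟩ := exists_map_eq (sqK₀.lift (𝟙 _) (𝟙 _) rfl)
  have hd₁ : d ≫ k₁ = 𝟙 V := (yon S).map_injective (by rw [Functor.map_comp, hd, IsPullback.lift_fst, (yon S).map_id])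
  have hd₂ : d ≫ k₂ = 𝟙 V := (yon S).map_injective (by rw [Functor.map_comp, hd, IsPullback.lift_snd, (yon S).map_id])
  have extK : ∀ {T : Over S} (x y : T ⟶ K), x ≫ a₁ = y ≫ a₁ → x ≫ a₂ = y ≫ a₂ → x = y := fun {T} x y e₁ e₂ =>
    (yon S).map_injective (sqK.hom_ext (by rw [← Functor.map_comp, e₁, Functor.map_comp])
      (by rw [← Functor.map_comp, e₂, Functor.map_comp]))
  have extK₀ : ∀ {T : Over S} (x y : T ⟶ K₀), x ≫ k₁ = y ≫ k₁ → x ≫ k₂ = y ≫ k₂ → x = y := fun {T} x y e₁ e₂ =>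
    (yon S).map_injective (sqK₀.hom_ext (by rw [← Functor.map_comp, e₁, Functor.map_comp])
      (by rw [← Functor.map_comp, e₂, Functor.map_comp]))
  have sqd : IsPullback m (p₁ ≫ φ) e d := by
    refine isPullback_over (extK₀ _ _ ?_ ?_) (fun {T} x y hxy => ?_) (fun {T} z z' e₁ _ => hP'.hom_ext ?_ ?_)
    · rw [Category.assoc, he₁, reassoc_of% hm₁, Category.assoc, hd₁, Category.comp_id]
    · rw [Category.assoc, he₂, reassoc_of% hm₂, Category.assoc, hd₂, Category.comp_id, hP'.w]
    · have e₁ : x ≫ a₁ ≫ φ = y := by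
        rw [← he₁, reassoc_of% hxy, hd₁, Category.comp_id]
      have e₂ : x ≫ a₂ ≫ φ = y := by
        rw [← he₂, reassoc_of% hxy, hd₂, Category.comp_id]
      have ew : (x ≫ a₁) ≫ φ = (x ≫ a₂) ≫ φ := by rw [Category.assoc, Category.assoc, e₁, e₂]
      refine ⟨hP'.lift _ _ ew, extK _ _ ?_ ?_, ?_⟩
      · rw [Category.assoc, hm₁, IsPullback.lift_fst]
      · rw [Category.assoc, hm₂, IsPullback.lift_snd]
      · rw [IsPullback.lift_fst_assoc, Category.assoc, e₁]
    · rw [← hm₁, reassoc_of% e₁]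
    · rw [← hm₂, reassoc_of% e₁]
  haveI hdo : IsOpenImmersion d.left :=
    MorphismProperty.of_isPullback_of_descendsAlong (P := @IsOpenImmersion) (sqd.map (Over.forget S)) he hm
  -- the diagonal of b
  let ZZ : Over S := Over.mk (pullback.fst b.left b.left ≫ Z.hom)
  let z₁ : ZZ ⟶ Z := Over.homMk (pullback.fst b.left b.left) rfl
  let z₂ : ZZ ⟶ Z := Over.homMk (pullback.snd b.left b.left) (by
    show pullback.snd b.left b.left ≫ Z.hom = pullback.fst b.left b.left ≫ Z.hom
    rw [← Over.w b, pullback.condition_assoc])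
  have hzz : IsKernelPair b z₁ z₂ := QuotShLib.isKernelPair_of_left (IsPullback.of_hasPullback b.left b.left)
  obtain ⟨f, hf⟩ := exists_map_eq (sqK₀.lift ((yon S).map (z₁ ≫ a)) ((yon S).map (z₂ ≫ a)) (by
    rw [Functor.map_comp, Functor.map_comp, Category.assoc, Category.assoc, sq.w, ← Category.assoc,
      ← Category.assoc, ← Functor.map_comp, ← Functor.map_comp, hzz.w]))
  have hf₁ : f ≫ k₁ = z₁ ≫ a := (yon S).map_injective (by rw [Functor.map_comp, hf, IsPullback.lift_fst])
  have hf₂ : f ≫ k₂ = z₂ ≫ a := (yon S).map_injective (by rw [Functor.map_comp, hf, IsPullback.lift_snd])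
  let δ : Z ⟶ ZZ := Over.homMk (pullback.diagonal b.left) (by
    show pullback.diagonal b.left ≫ pullback.fst b.left b.left ≫ Z.hom = Z.hom
    rw [pullback.diagonal_fst_assoc])
  have hδ₁ : δ ≫ z₁ = 𝟙 Z := Over.OverMorphism.ext (pullback.diagonal_fst _)
  have hδ₂ : δ ≫ z₂ = 𝟙 Z := Over.OverMorphism.ext (pullback.diagonal_snd _)
  have sqδ : IsPullback δ a f d := by
    refine isPullback_over (extK₀ _ _ ?_ ?_) (fun {T} x y hxy => ?_) (fun {T} z z' e₁ _ => ?_)
    · rw [Category.assoc, hf₁, reassoc_of% hδ₁, Category.assoc, hd₁, Category.comp_id]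
    · rw [Category.assoc, hf₂, reassoc_of% hδ₂, Category.assoc, hd₂, Category.comp_id]
    · have e₁ : x ≫ z₁ ≫ a = y := by rw [← hf₁, reassoc_of% hxy, hd₁, Category.comp_id]
      have e₂ : x ≫ z₂ ≫ a = y := by rw [← hf₂, reassoc_of% hxy, hd₂, Category.comp_id]
      have e₃ : x ≫ z₁ = x ≫ z₂ := (yon S).map_injective (sq.hom_ext
        (by rw [← Functor.map_comp, ← Functor.map_comp, Category.assoc, Category.assoc, e₁, e₂])
        (by rw [← Functor.map_comp, ← Functor.map_comp, Category.assoc, Category.assoc, hzz.w]))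
      refine ⟨x ≫ z₁, hzz.hom_ext ?_ ?_, by rw [Category.assoc, e₁]⟩
      · rw [Category.assoc, hδ₁, Category.comp_id]
      · rw [Category.assoc, hδ₂, Category.comp_id, e₃]
    · simpa only [Category.assoc, hδ₁, Category.comp_id] using congrArg (· ≫ z₁) e₁
  haveI : IsOpenImmersion (pullback.diagonal b.left) :=
    MorphismProperty.of_isPullback (P := @IsOpenImmersion) (sqδ.map (Over.forget S)).flip hdo
  exact Etale.of_formallyUnramified_of_flat b.left

end Groth.Agent.Bootstrap
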