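import Groth.Agent.AlgSpLib.Subspace
import Groth.Agent.AlgSpLib.Points
import Groth.Agent.AlgSpLib.Sigma
import Groth.Agent.AlgSpLib.Atlas
import Mathlib

/-!
Coproducts of fppf sheaves: disjointness, universality and coproducts of algebraic spaces.
-/

set_option autoImplicit false
set_option linter.style.haveILetI false
set_option backward.isDefEq.respectTransparency false

universe u

open CategoryTheory CategoryTheory.Limits AlgebraicGeometry Opposite
open Groth.Agent.AlgSpLib AlgSp

namespace Groth.Agent.Bootstrap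

variable {S : Scheme.{u}} {ι : Type u} {F : ι → Sp S}

/-- the presheaf coproduct -/
noncomputable def sigmaPshSp (F : ι → Sp S) : (Over S)ᵒᵖ ⥤ Type (u + 1) where
  obj T := Σ i, (F i).obj.obj T
  map f := ↾fun x => ⟨x.1, (F x.1).obj.map f x.2⟩
  map_id T := ConcreteCategory.hom_ext _ _ fun ⟨i, x⟩ =>
    congrArg (Sigma.mk i) (ConcreteCategory.congr_hom ((F i).obj.map_id T) x)
  map_comp f g := ConcreteCategory.hom_ext _ _ fun ⟨i, x⟩ =>
    congrArg (Sigma.mk i) (ConcreteCategory.congr_hom ((F i).obj.map_comp f g) x)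

/-- the comparison with a cofan -/
noncomputable def sigmaToPt (c : Cofan F) : sigmaPshSp F ⟶ c.pt.obj where
  app T := ↾fun x => (c.inj x.1).hom.app T x.2
  naturality T T' f := by
    ext ⟨i, x⟩
    exact NatTrans.naturality_apply (c.inj i).hom f x

theorem locallyBijective_sigmaToPt {c : Cofan F} (hc : IsColimit c) :
    Presheaf.IsLocallyInjective (J S) (sigmaToPt c) ∧ Presheaf.IsLocallySurjective (J S) (sigmaToPt c) := by
  let A : Sp S := (presheafToSheaf (J S) (Type (u + 1))).obj (sigmaPshSp F)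
  let η : sigmaPshSp F ⟶ A.obj := toSheafify (J S) (sigmaPshSp F)
  let inc : ∀ i, (F i).obj ⟶ sigmaPshSp F := fun i =>
    { app := fun T => ↾fun x => ⟨i, x⟩
      naturality := fun T T' f => rfl }
  let d : c.pt ⟶ A := Cofan.IsColimit.desc hc fun i => ObjectProperty.homMk (inc i ≫ η)
  let e : A ⟶ c.pt := ObjectProperty.homMk (sheafifyLift (J S) (sigmaToPt c) c.pt.property)
  have he : η ≫ e.hom = sigmaToPt c := toSheafify_sheafifyLift _ _ _
  have hde : d ≫ e = 𝟙 _ := by
    refine Cofan.IsColimit.hom_ext hc _ _ fun i => ?_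
    rw [Cofan.IsColimit.fac_assoc, Category.comp_id]
    apply ObjectProperty.hom_ext
    show (inc i ≫ η) ≫ e.hom = (c.inj i).hom
    rw [Category.assoc, he]
    rfl
  have hed : e ≫ d = 𝟙 _ := by
    apply ObjectProperty.hom_ext
    refine sheafify_hom_ext _ _ _ A.property ?_
    show η ≫ e.hom ≫ d.hom = η ≫ 𝟙 _
    rw [reassoc_of% he, Category.comp_id]
    ext T ⟨i, x⟩
    have h := congr(($(Cofan.IsColimit.fac hc (fun i => ObjectProperty.homMk (inc i ≫ η) : ∀ i, F i ⟶ A) i)).hom.app T x)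
    exact h
  have : IsIso e.hom := ⟨d.hom, congrArg (fun k : A ⟶ A => k.hom) hed, congrArg (fun k : c.pt ⟶ c.pt => k.hom) hde⟩
  rw [← he]
  exact ⟨inferInstance, inferInstance⟩

/-- sections of a coproduct are locally in a summand -/
theorem exists_summand_cover {c : Cofan F} (hc : IsColimit c) {T : Over S} (ξ : (yon S).obj T ⟶ c.pt) :
    ∃ R ∈ Scheme.fppfPrecoverage T.left, ∀ ⦃Z : Scheme.{u}⦄ (g : Z ⟶ T.left), R g →
      ∃ (i : ι) (l : (yon S).obj (Over.mk (g ≫ T.hom)) ⟶ F i),
        l ≫ c.inj i = (yon S).map (Over.homMk g rfl : Over.mk (g ≫ T.hom) ⟶ T) ≫ ξ := by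
  have := (locallyBijective_sigmaToPt hc).2
  have h := Presheaf.imageSieve_mem (J S) (sigmaToPt c) (U := op T) ((J S).uliftYonedaEquiv ξ)
  rw [GrothendieckTopology.mem_over_iff] at h
  obtain ⟨R, hR, hle⟩ := Precoverage.mem_toGrothendieck_iff_of_isStableUnderComposition.1 h
  refine ⟨R, hR, fun Z g hg => ?_⟩
  obtain ⟨⟨i, t⟩, ht⟩ := (Sieve.overEquiv_iff _ _).1 (hle _ _ hg)
  refine ⟨i, (J S).uliftYonedaEquiv.symm t, (J S).uliftYonedaEquiv.injective ?_⟩
  rw [uliftYonedaEquiv_comp', Equiv.apply_symm_apply, ← GrothendieckTopology.uliftYonedaEquiv_naturality]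
  exact ht

/-- sections of two summands agreeing in the coproduct: only one summand can occur, and then they are equal -/
theorem summand_eq {c : Cofan F} (hc : IsColimit c) {T : Over S} {i j : ι} (a : (yon S).obj T ⟶ F i)
    (b : (yon S).obj T ⟶ F j) (e : a ≫ c.inj i = b ≫ c.inj j) :
    (Nonempty ↥T.left → i = j) ∧ ∀ (h : i = j), a ≫ eqToHom (congrArg F h) = b := by
  have := (locallyBijective_sigmaToPt hc).1
  have hmem := Presheaf.equalizerSieve_mem (J S) (sigmaToPt c) (X := op T)
    (⟨i, (J S).uliftYonedaEquiv a⟩ : Σ k, (F k).obj.obj (op T)) ⟨j, (J S).uliftYonedaEquiv b⟩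
    ((uliftYonedaEquiv_comp' a (c.inj i)).symm.trans ((congrArg _ e).trans (uliftYonedaEquiv_comp' b (c.inj j))))
  refine ⟨fun ⟨t⟩ => ?_, fun h => ?_⟩
  · obtain ⟨V, g, hg, -⟩ := exists_mem_range_of_mem_J hmem t
    exact congrArg Sigma.fst hg
  · subst h
    rw [eqToHom_refl, Category.comp_id]
    apply (J S).uliftYonedaEquiv.injective
    refine ((((isSheaf_iff_isSheaf_of_type _ _).1 (F i).property) _ hmem).isSeparatedFor).ext fun V g hg => ?_
    exact eq_of_heq (Sigma.ext_iff.1 hg).2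

theorem mono_inj {c : Cofan F} (hc : IsColimit c) (i : ι) : Mono (c.inj i) :=
  mono_of_points _ fun U a b e => by
    have := (summand_eq hc a b e).2 rfl
    rwa [eqToHom_refl, Category.comp_id] at this

theorem eq_of_mem_range {c : Cofan F} (hc : IsColimit c) {x : Points c.pt} {i j : ι}
    (hi : x ∈ Set.range (Points.map (c.inj i))) (hj : x ∈ Set.range (Points.map (c.inj j))) : i = j := by
  obtain ⟨p, hp⟩ := hi
  obtain ⟨q, hq⟩ := hj
  obtain ⟨T, a, t, rfl⟩ := exists_ofPt p
  obtain ⟨T', b, t', rfl⟩ := exists_ofPt q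
  rw [Points.map_ofPt] at hp hq
  obtain ⟨K, α, β, k, e, -, -⟩ := exists_of_ofPt_eq (hp.trans hq.symm)
  rw [← Category.assoc, ← Category.assoc] at e
  exact (summand_eq hc _ _ e).1 ⟨k⟩

theorem isOpen_range_inj {c : Cofan F} (hc : IsColimit c) (i : ι) :
    IsOpen (Set.range (Points.map (c.inj i))) := by
  rw [Points.isOpen_iff]
  intro T ξ
  rw [isOpen_iff_forall_mem_open]
  intro t ht
  obtain ⟨R, hR, hl⟩ := exists_summand_cover hc ξ
  obtain ⟨ι', X', f', rfl⟩ := R.exists_eq_ofArrows
  rw [Scheme.fppfPrecoverage, Scheme.ofArrows_mem_precoverage_iff] at hR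
  obtain ⟨k, z, hz⟩ := hR.1 t
  obtain ⟨j, l, hlj⟩ := hl (f' k) (Presieve.ofArrows.mk k)
  have key : ∀ z', Points.ofPt ξ (f' k z') ∈ Set.range (Points.map (c.inj j)) := fun z' =>
    ⟨Points.ofPt l z', by rw [Points.map_ofPt, hlj, ofPt_comp]; rfl⟩
  obtain rfl : j = i := eq_of_mem_range hc (key z) (by rw [hz]; exact ht)
  refine ⟨Set.range (f' k), ?_, ?_, ⟨z, hz⟩⟩
  · rintro _ ⟨z', rfl⟩
    exact key z'
  · have := (hR.2 k).1
    have := (hR.2 k).2
    exact (f' k).isOpenMap.isOpen_range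

/-- a summand is the open subspace of its points -/
theorem exists_iso_summand {c : Cofan F} (hc : IsColimit c) (i : ι) :
    ∃ e : F i ≅ subSheaf (Set.range (Points.map (c.inj i))), e.hom ≫ subInc _ = c.inj i := by
  let W := Set.range (Points.map (c.inj i))
  obtain ⟨d, hd⟩ := exists_factor_subInc (W := W) (c.inj i) fun x => ⟨x, rfl⟩
  have := mono_inj hc i
  have : Mono d := mono_of_mono_fac hd
  have : Sheaf.IsLocallySurjective d := by
    constructor
    intro T σ
    let s : (yon S).obj T ⟶ subSheaf W := (J S).uliftYonedaEquiv.symm σ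
    obtain ⟨R, hR, hl⟩ := exists_summand_cover hc (s ≫ subInc W)
    obtain ⟨ι', X', f', rfl⟩ := R.exists_eq_ofArrows
    refine (J S).superset_covering ?_
      (generate_ofArrows_mem_J (V := fun k => Over.mk (f' k ≫ T.hom)) (fun k => Over.homMk (f' k) rfl) hR)
    rintro Z _ ⟨_, m, _, ⟨k⟩, rfl⟩
    obtain ⟨j, l, hlj⟩ := hl (f' k) (Presieve.ofArrows.mk k)
    have : ∃ l' : (yon S).obj Z ⟶ F i, l' ≫ c.inj i =
        (yon S).map (m ≫ (Over.homMk (f' k) rfl : Over.mk (f' k ≫ T.hom) ⟶ T)) ≫ s ≫ subInc W := by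
      have hij : Nonempty ↥Z.left → i = j := fun ⟨z⟩ => by
        refine eq_of_mem_range hc (x := Points.ofPt ((yon S).map (m ≫ (Over.homMk (f' k) rfl :
          Over.mk (f' k ≫ T.hom) ⟶ T)) ≫ s ≫ subInc W) z) ?_ ⟨Points.ofPt ((yon S).map m ≫ l) z, ?_⟩
        · rw [ofPt_comp]
          exact ofPt_subInc_mem s _
        · rw [Points.map_ofPt, Category.assoc, hlj, Functor.map_comp, Category.assoc]
      by_cases hne : Nonempty ↥Z.left
      · obtain rfl := hij hne
        exact ⟨(yon S).map m ≫ l, by rw [Category.assoc, hlj, Functor.map_comp, Category.assoc]⟩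
      · have : IsEmpty Z.left := not_nonempty_iff.1 hne
        have := subsingleton_hom_of_isEmpty (F := c.pt) (W := Z)
        have hbot : (⊥ : Presieve Z.left) ∈ Scheme.fppfPrecoverage Z.left := Scheme.bot_mem_precoverage _ _
        have hsh : Presieve.IsSheafFor (F i).obj (⊥ : Sieve Z).arrows :=
          ((isSheaf_iff_isSheaf_of_type _ _).1 (F i).property) _ ((GrothendieckTopology.mem_over_iff _ _).2
            (Scheme.fppfPrecoverage.toGrothendieck.superset_covering (by rintro _ _ ⟨_, _, _, h, -⟩; exact False.elim h)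
              (Precoverage.generate_mem_toGrothendieck hbot)))
        obtain ⟨y, -⟩ := hsh (fun _ _ h => False.elim h) (fun _ _ _ _ _ _ _ h => False.elim h)
        exact ⟨(J S).uliftYonedaEquiv.symm y, Subsingleton.elim _ _⟩
    obtain ⟨l', hl'⟩ := this
    refine ⟨(J S).uliftYonedaEquiv l', ?_⟩
    have h2 : l' ≫ d = (yon S).map (m ≫ (Over.homMk (f' k) rfl : Over.mk (f' k ≫ T.hom) ⟶ T)) ≫ s := by
      rw [← cancel_mono (subInc W), Category.assoc, hd, hl', Category.assoc]
    rw [← uliftYonedaEquiv_comp', h2, ← Equiv.eq_symm_apply,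
      ← GrothendieckTopology.uliftYonedaEquiv_symm_naturality_left]
  have : Epi d := (Sheaf.isLocallySurjective_iff_epi d).1 inferInstance
  have : IsIso d := isIso_of_mono_of_epi d
  exact ⟨asIso d, hd⟩

theorem repWith_inj {c : Cofan F} (hc : IsColimit c) (i : ι) : RepWith @IsOpenImmersion (c.inj i) := by
  obtain ⟨e, he⟩ := exists_iso_summand hc i
  rw [← he]
  exact (repWith_iso_comp_iff e.hom _).2 (repWith_subInc (isOpen_range_inj hc i))

theorem isAlgSpace_summand {c : Cofan F} (hc : IsColimit c) (h : IsAlgSpace c.pt) (i : ι) : IsAlgSpace (F i) := by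
  obtain ⟨e, -⟩ := exists_iso_summand hc i
  exact IsAlgSpace.of_iso (isAlgSpace_subSheaf h (isOpen_range_inj hc i)) e.symm

theorem exists_range_inj {c : Cofan F} (hc : IsColimit c) (x : Points c.pt) :
    ∃ i, x ∈ Set.range (Points.map (c.inj i)) := exists_mem_range_cofan c hc x

end Groth.Agent.Bootstrap
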