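import Groth.Agent.AlgSpLib.Quotient
import Groth.Agent.QA.IndQAComp
import Groth.Agent.SliceEqv.Grpd
import Mathlib

/-!
The fppf quotient of an equivalence relation: kernel pair, local surjectivity and representable diagonal.
-/

set_option autoImplicit false
set_option linter.style.haveILetI false
set_option backward.isDefEq.respectTransparency false

universe u

open CategoryTheory CategoryTheory.Limits AlgebraicGeometry
open Groth.Agent.AlgSpLib AlgSp

namespace Groth.Agent.Bootstrap

variable {S : Scheme.{u}} {R U : Over S} {s t : R ⟶ U}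

theorem isPullback_quot (h : AlgSp.IsEqvRel s t) :
    IsPullback ((yon S).map t) ((yon S).map s) (quotProj s t) (quotProj s t) :=
  isPullback_of_coequalizer h (isColimitQuotProj s t)

theorem isLocallySurjective_quot (s t : R ⟶ U) : Sheaf.IsLocallySurjective (quotProj s t) := by
  haveI : Epi (quotProj s t) := Cofork.IsColimit.epi (isColimitQuotProj s t)
  exact (Sheaf.isLocallySurjective_iff_epi _).2 inferInstance

theorem indQA_graph (h : AlgSp.IsEqvRel s t) [LocallyQuasiFinite s.left] [LocallyOfFiniteType s.left] :
    indQA (prod.lift t s).left := by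
  have : Mono (prod.lift t s) := ⟨fun {T} a b e => h.injective T a b
    (by simpa using congrArg (fun k => k ≫ prod.fst) e) (by simpa using congrArg (fun k => k ≫ prod.snd) e)⟩
  have : Mono (prod.lift t s).left := mono_left _
  have hq : LocallyQuasiFinite ((prod.lift t s).left ≫ (prod.snd : U ⨯ U ⟶ U).left) := by
    rw [← Over.comp_left, prod.lift_snd]; infer_instance
  have hl : LocallyOfFiniteType ((prod.lift t s).left ≫ (prod.snd : U ⨯ U ⟶ U).left) := by
    rw [← Over.comp_left, prod.lift_snd]; infer_instance
  have : LocallyQuasiFinite (prod.lift t s).left := .of_comp _ (prod.snd : U ⨯ U ⟶ U).left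
  have : LocallyOfFiniteType (prod.lift t s).left :=
    locallyOfFiniteType_of_comp _ (prod.snd : U ⨯ U ⟶ U).left
  exact QA.IndQA.of_locallyQuasiFinite _

/-- The quotient of a quasi-finite equivalence relation has representable diagonal. -/
theorem representable_diag (h : AlgSp.IsEqvRel s t) [LocallyQuasiFinite s.left] [LocallyOfFiniteType s.left] :
    Representable (Limits.diag (QuotSh.quot Scheme.fppfPrecoverage s t)) := by
  haveI := isLocallySurjective_quot s t
  refine representable_of_indQA _ (b := prod.map (quotProj s t) (quotProj s t)) ?_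
    (isPullback_lift_diag (isPullback_quot h)) ?_
  · intro T ξ
    obtain ⟨A, a, α, ha₁, ha₂, ha₃, hα⟩ := exists_fppf_lift (quotProj s t) (ξ ≫ prod.fst)
    obtain ⟨B, b, β, hb₁, hb₂, hb₃, hβ⟩ := exists_fppf_lift (quotProj s t) ((yon S).map a ≫ ξ ≫ prod.snd)
    refine ⟨B, b ≫ a, prod.lift ((yon S).map b ≫ α) β,
      MorphismProperty.comp_mem @Flat b.left a.left hb₁ ha₁,
      MorphismProperty.comp_mem @Surjective b.left a.left hb₂ ha₂,
      MorphismProperty.comp_mem @LocallyOfFinitePresentation b.left a.left hb₃ ha₃, ?_⟩
    apply prod.hom_ext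
    · rw [prod.lift_map, prod.lift_fst, Category.assoc, hα]
      simp only [Functor.map_comp, Category.assoc]
    · rw [prod.lift_map, prod.lift_snd, hβ]
      simp only [Functor.map_comp, Category.assoc]
  · have e : prod.lift ((yon S).map t) ((yon S).map s) =
        (yon S).map (prod.lift t s) ≫ prodComparison (yon S) U U := by
      apply prod.hom_ext <;> simp [prodComparison, ← Functor.map_comp]
    rw [e]
    exact (repWith_comp_iso_iff (P := indQA) _ _).2 ((repWith_yon_iff _).2 (indQA_graph h))

/-- Points with the same image in the quotient are related. -/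
theorem exists_arrow (h : AlgSp.IsEqvRel s t) {T : Over S} (a b : T ⟶ U)
    (e : (yon S).map a ≫ quotProj s t = (yon S).map b ≫ quotProj s t) :
    ∃ r : T ⟶ R, r ≫ t = a ∧ r ≫ s = b := by
  obtain ⟨r, hr⟩ := exists_map_eq ((isPullback_quot h).lift _ _ e)
  refine ⟨r, (yon S).map_injective ?_, (yon S).map_injective ?_⟩
  · rw [Functor.map_comp, hr, IsPullback.lift_fst]
  · rw [Functor.map_comp, hr, IsPullback.lift_snd]

theorem map_quot_eq {T : Over S} (r : T ⟶ R) :
    (yon S).map (r ≫ t) ≫ quotProj s t = (yon S).map (r ≫ s) ≫ quotProj s t := by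
  simp only [Functor.map_comp, Category.assoc, quotProj_condition]

end Groth.Agent.Bootstrap
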