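import Groth.Agent.Bootstrap.QuotSp
import Mathlib

/-!
Actions of group sheaves over a base: point calculus, freeness, shear isomorphism.
-/

set_option autoImplicit false
set_option linter.style.haveILetI false
set_option backward.isDefEq.respectTransparency false

universe u

open CategoryTheory CategoryTheory.Limits AlgebraicGeometry MonoidalCategory CartesianMonoidalCategory
open scoped MonObj
open Groth.Agent.AlgSpLib AlgSp

namespace Groth.Agent.Bootstrap

variable {S : Scheme.{u}} {B : Sp S} {G X : Over B} [GrpObj G] (a : GAction G X)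

theorem gact_one {Z : Over B} (x : Z ⟶ X) : lift (1 : Z ⟶ G) x ≫ a.act = x := by
  rw [Hom.one_def, ← lift_whiskerRight, Category.assoc, a.one_act, lift_leftUnitor_hom]

theorem gact_mul {Z : Over B} (g h : Z ⟶ G) (x : Z ⟶ X) :
    lift (g * h) x ≫ a.act = lift g (lift h x ≫ a.act) ≫ a.act := by
  rw [Hom.mul_def, ← lift_whiskerRight, Category.assoc, a.mul_act, lift_lift_associator_hom_assoc,
    lift_whiskerLeft_assoc]

/-- a free action gives an equivalence relation -/
theorem isEqvRelSp_of_isFree (ha : a.IsFree) : IsEqvRelSp (snd G X).left a.act.left := by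
  refine ⟨fun T r r' ht hs => ?_, fun T => ⟨fun x => ?_, ?_, ?_⟩⟩
  · let β := r ≫ (G ⊗ X).hom
    have hβ : r' ≫ (G ⊗ X).hom = β := by
      show r' ≫ (G ⊗ X).hom = r ≫ (G ⊗ X).hom
      rw [← Over.w (snd G X), ← Category.assoc, ← hs, Category.assoc]
    let p : Over.mk β ⟶ G ⊗ X := Over.homMk r rfl
    let p' : Over.mk β ⟶ G ⊗ X := Over.homMk r' hβ
    have e₂ : p ≫ snd G X = p' ≫ snd G X := Over.OverMorphism.ext hs
    have e₁ : p ≫ a.act = p' ≫ a.act := Over.OverMorphism.ext ht
    rw [← lift_comp_fst_snd p, ← lift_comp_fst_snd p', ← e₂] at e₁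
    have key := ha β ((p' ≫ fst G X)⁻¹ * (p ≫ fst G X)) (p ≫ snd G X) (by
      rw [gact_mul, e₁, ← gact_mul, inv_mul_cancel, gact_one])
    rw [← Hom.one_def, inv_mul_eq_one] at key
    have : p = p' := by rw [← lift_comp_fst_snd p, ← lift_comp_fst_snd p', key, e₂]
    exact congrArg CommaMorphism.left this
  · let x' : Over.mk (x ≫ X.hom) ⟶ X := Over.homMk x rfl
    refine ⟨(lift (1 : Over.mk (x ≫ X.hom) ⟶ G) x').left, ?_, ?_⟩
    · exact congrArg CommaMorphism.left (gact_one a x')
    · exact congrArg CommaMorphism.left (lift_snd (1 : Over.mk (x ≫ X.hom) ⟶ G) x')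
  · rintro x y ⟨r, rfl, rfl⟩
    let p : Over.mk (r ≫ (G ⊗ X).hom) ⟶ G ⊗ X := Over.homMk r rfl
    refine ⟨(lift (p ≫ fst G X)⁻¹ (p ≫ a.act)).left, ?_, ?_⟩
    · have : lift (p ≫ fst G X)⁻¹ (p ≫ a.act) ≫ a.act = p ≫ snd G X := by
        have hp := lift_comp_fst_snd p
        conv_lhs => arg 1; arg 2; arg 1; rw [← hp]
        rw [← gact_mul, inv_mul_cancel, gact_one]
      exact congrArg CommaMorphism.left this
    · exact congrArg CommaMorphism.left (lift_snd (p ≫ fst G X)⁻¹ (p ≫ a.act))
  · rintro x y z ⟨r, rfl, rfl⟩ ⟨r', h₁, rfl⟩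
    let β := r ≫ (G ⊗ X).hom
    have hβ : r' ≫ (G ⊗ X).hom = β := by
      show r' ≫ (G ⊗ X).hom = r ≫ (G ⊗ X).hom
      rw [← Over.w a.act, ← Category.assoc, h₁, Category.assoc, Over.w a.act, Over.w (snd G X)]
    let p : Over.mk β ⟶ G ⊗ X := Over.homMk r rfl
    let p' : Over.mk β ⟶ G ⊗ X := Over.homMk r' hβ
    have e : p' ≫ a.act = p ≫ snd G X := Over.OverMorphism.ext h₁
    refine ⟨(lift ((p ≫ fst G X) * (p' ≫ fst G X)) (p' ≫ snd G X)).left, ?_, ?_⟩
    · have : lift ((p ≫ fst G X) * (p' ≫ fst G X)) (p' ≫ snd G X) ≫ a.act = p ≫ a.act := by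
        rw [gact_mul]
        have : lift (p' ≫ fst G X) (p' ≫ snd G X) ≫ a.act = p ≫ snd G X := by
          rw [lift_comp_fst_snd, e]
        rw [this, lift_comp_fst_snd]
      exact congrArg CommaMorphism.left this
    · exact congrArg CommaMorphism.left (lift_snd ((p ≫ fst G X) * (p' ≫ fst G X)) (p' ≫ snd G X))

/-- the shear map -/
theorem isIso_shear : IsIso (lift (fst G X) a.act) := by
  have h1 : lift (fst G X) a.act ≫ fst G X = fst G X := lift_fst _ _
  refine ⟨lift (fst G X) (lift (fst G X)⁻¹ (snd G X) ≫ a.act), ?_, ?_⟩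
  · refine CartesianMonoidalCategory.hom_ext _ _ ?_ ?_
    · rw [Category.assoc, lift_fst, h1, Category.id_comp]
    · rw [Category.assoc, lift_snd, Category.id_comp, comp_lift_assoc, GrpObj.comp_inv, h1, lift_snd]
      have h := gact_mul a (fst G X)⁻¹ (fst G X) (snd G X)
      rw [inv_mul_cancel, gact_one, lift_fst_snd, Category.id_comp] at h
      exact h.symm
  · refine CartesianMonoidalCategory.hom_ext _ _ ?_ ?_
    · rw [Category.assoc, lift_fst, lift_fst, Category.id_comp]
    · rw [Category.assoc, lift_snd, Category.id_comp]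
      nth_rw 2 [← Category.id_comp a.act]
      rw [← lift_fst_snd, comp_lift_assoc, lift_fst, lift_snd, ← gact_mul, mul_inv_cancel, gact_one]

end Groth.Agent.Bootstrap
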