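import Groth.Agent.Bootstrap.Chart
import Groth.Agent.S10139
import Mathlib

/-!
Quotients of flat, locally finitely presented equivalence relations are algebraic spaces.
-/

set_option autoImplicit false
set_option linter.style.haveILetI false
set_option backward.isDefEq.respectTransparency false

universe u

open CategoryTheory CategoryTheory.Limits AlgebraicGeometry
open Groth.Agent.AlgSpLib AlgSp

namespace Groth.Agent.Bootstrap

variable {S : Scheme.{u}}

theorem isAlgSpace_quot_qf {R U : Over S} {s t : R ⟶ U} (h : AlgSp.IsEqvRel s t) [Flat s.left]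
    [LocallyOfFinitePresentation s.left] [LocallyQuasiFinite s.left] [Flat t.left]
    [LocallyOfFinitePresentation t.left] [LocallyQuasiFinite t.left] :
    IsAlgSpace (QuotSh.quot Scheme.fppfPrecoverage s t) := by
  choose V q hq using fun u : U.left => exists_chart h u
  have hΔ := representable_diag h
  haveI := isLocallySurjective_quot s t
  let A : Over S := Over.mk (Sigma.desc fun i => (V i).hom)
  obtain ⟨L, hL⟩ := exists_sigma_hom (Z := fun i => (V i).left) (fun i => (V i).hom) q
  let ιA : ∀ i, V i ⟶ A := fun i => Over.homMk (Sigma.ι (fun i => (V i).left) i) (Sigma.ι_desc _ i)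
  have hι : ∀ i, (yon S).map (ιA i) ≫ L = q i := hL
  have hLrep : Representable L := Functor.relativelyRepresentable.of_diag hΔ L
  obtain ⟨W, c₁, c₂, sq⟩ := exists_pullback hΔ L (quotProj s t)
  have hpiece : ∀ i, Etale (pullback.fst c₁.left (Sigma.ι (fun i => (V i).left) i) ≫ c₂.left) ∧
      i ∈ Set.range (pullback.fst c₁.left (Sigma.ι (fun i => (V i).left) i) ≫ c₂.left) := by
    intro i
    let Q : Over S := Over.mk (pullback.fst c₁.left (Sigma.ι (fun i => (V i).left) i) ≫ W.hom)
    let e₁ : Q ⟶ W := Over.homMk (pullback.fst _ _) rfl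
    let e₂ : Q ⟶ V i := Over.homMk (pullback.snd c₁.left (Sigma.ι (fun i => (V i).left) i)) (by
      show pullback.snd c₁.left _ ≫ (V i).hom = pullback.fst c₁.left _ ≫ W.hom
      rw [← Over.w (ιA i), ← Over.w c₁]
      exact pullback.condition_assoc _ |>.symm)
    have sq₁ : IsPullback ((yon S).map e₁) ((yon S).map e₂) ((yon S).map c₁) ((yon S).map (ιA i)) :=
      isPullback_yon_iff.2 (IsPullback.of_hasPullback _ _)
    refine hq i Q e₂ (e₁ ≫ c₂) ?_
    rw [Functor.map_comp, ← hι i]
    exact sq₁.flip.paste_vert sq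
  have he : Etale c₂.left := by
    rw [IsZariskiLocalAtSource.iff_of_openCover (P := @Etale)
      ((sigmaOpenCover fun i => (V i).left).pullback₁ c₁.left)]
    exact fun i => (hpiece i).1
  have hs : Surjective c₂.left := ⟨fun x => by
    obtain ⟨z, hz⟩ := (hpiece x).2
    exact ⟨_, hz⟩⟩
  exact isAlgSpace_of_atlas (repWith_of_isLocallySurjective hLrep sq ((repWith_yon_iff _).2 he))
    (repWith_of_isLocallySurjective hLrep sq ((repWith_yon_iff _).2 hs))

theorem isAlgSpace_quot {R U : Over S} {s t : R ⟶ U} (h : AlgSp.IsEqvRel s t) [Flat s.left]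
    [LocallyOfFinitePresentation s.left] [Flat t.left] [LocallyOfFinitePresentation t.left] :
    IsAlgSpace (QuotSh.quot Scheme.fppfPrecoverage s t) := by
  obtain ⟨R', U', s', t', g, r, ψ, h', -, -, _, _, _, _, _, _, -, hψ⟩ := S10139.result S s t h
  exact IsAlgSpace.of_iso (isAlgSpace_quot_qf h') (asIso ψ)

end Groth.Agent.Bootstrap
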