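import Groth.Agent.Bootstrap.PreQuot
import Groth.Agent.Bootstrap.Diag
import Groth.Agent.AlgSpLib.Subspace
import Mathlib

/-!
Restricting a relation to an open saturation gives an open subsheaf of the quotient.
-/

set_option autoImplicit false
set_option linter.style.haveILetI false
set_option backward.isDefEq.respectTransparency false

universe u

open CategoryTheory CategoryTheory.Limits AlgebraicGeometry Opposite
open Groth.Agent.AlgSpLib AlgSp

namespace Groth.Agent.Bootstrap

variable {S : Scheme.{u}}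

theorem exists_iso_quot {R U : Over S} (s t : R ⟶ U) :
    ∃ e : quotSp ((yon S).map s) ((yon S).map t) ≅ QuotSh.quot Scheme.fppfPrecoverage s t,
      quotSpπ _ _ ≫ e.hom = quotProj s t := by
  let a : quotSp ((yon S).map s) ((yon S).map t) ⟶ QuotSh.quot Scheme.fppfPrecoverage s t :=
    quotSpDesc (quotProj s t) (quotProj_condition s t).symm
  obtain ⟨b, hb⟩ := Cofork.IsColimit.desc' (isColimitQuotProj s t) (quotSpπ ((yon S).map s) ((yon S).map t))
    (quotSp_condition _ _).symm
  replace hb : quotProj s t ≫ b = quotSpπ _ _ := hb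
  have ha : quotSpπ _ _ ≫ a = quotProj s t := quotSpπ_desc _ _ _ _
  have : Epi (quotSpπ ((yon S).map s) ((yon S).map t)) := inferInstanceAs (Epi (coequalizer.π _ _))
  have : Epi (quotProj s t) := Cofork.IsColimit.epi (isColimitQuotProj s t)
  exact ⟨⟨a, b, by rw [← cancel_epi (quotSpπ ((yon S).map s) ((yon S).map t)), reassoc_of% ha, hb, Category.comp_id],
    by rw [← cancel_epi (quotProj s t), reassoc_of% hb, ha, Category.comp_id]⟩, ha⟩

/-- the map of quotients induced by `g` is an open immersion when the saturation of `g` is open -/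
theorem repWith_openImmersion_quot_map {R U R' U' : Over S} (s t : R ⟶ U) (s' t' : R' ⟶ U') (g : U' ⟶ U)
    (hpre : IsPreEqvRelSp ((yon S).map s) ((yon S).map t))
    (hres : ∀ ⦃T : Over S⦄ (a b : T ⟶ U') (r : T ⟶ R), r ≫ t = a ≫ g → r ≫ s = b ≫ g →
      ∃ r' : T ⟶ R', r' ≫ t' = a ∧ r' ≫ s' = b)
    {X W : Over S} (q₁ : X ⟶ U') (q₂ : X ⟶ R) (hX : q₁ ≫ g = q₂ ≫ t) (j : W ⟶ U) [IsOpenImmersion j.left]
    (hl : X ⟶ W) [Sheaf.IsLocallySurjective ((yon S).map hl)] (hhl : hl ≫ j = q₂ ≫ s)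
    (hW : ∀ ⦃T : Over S⦄ (a : T ⟶ U') (r : T ⟶ R), r ≫ t = a ≫ g → ∀ z, (r ≫ s).left z ∈ Set.range j.left)
    (φ : QuotSh.quot Scheme.fppfPrecoverage s' t' ⟶ QuotSh.quot Scheme.fppfPrecoverage s t)
    (hφ : quotProj s' t' ≫ φ = (yon S).map g ≫ quotProj s t) : RepWith @IsOpenImmersion φ := by
  obtain ⟨e, he⟩ := exists_iso_quot s t
  obtain ⟨e', he'⟩ := exists_iso_quot s' t'
  have hres' : ∀ ⦃T : Over S⦄ (a b : (yon S).obj T ⟶ (yon S).obj U'),
      (∃ r, r ≫ (yon S).map t = a ≫ (yon S).map g ∧ r ≫ (yon S).map s = b ≫ (yon S).map g) →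
        ∃ r', r' ≫ (yon S).map t' = a ∧ r' ≫ (yon S).map s' = b := by
    rintro T a b ⟨r, h1, h2⟩
    obtain ⟨a, rfl⟩ := exists_map_eq a
    obtain ⟨b, rfl⟩ := exists_map_eq b
    obtain ⟨r, rfl⟩ := exists_map_eq r
    rw [← Functor.map_comp, ← Functor.map_comp] at h1 h2
    obtain ⟨r', h1', h2'⟩ := hres a b r ((yon S).map_injective h1) ((yon S).map_injective h2)
    exact ⟨(yon S).map r', by rw [← Functor.map_comp, h1'], by rw [← Functor.map_comp, h2']⟩
  have hψ : quotSpπ ((yon S).map s') ((yon S).map t') ≫ (e'.hom ≫ φ ≫ e.inv) = (yon S).map g ≫ quotSpπ _ _ := by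
    rw [reassoc_of% he', reassoc_of% hφ, ← he, Category.assoc, e.hom_inv_id, Category.comp_id]
  have hm : Mono (e'.hom ≫ φ ≫ e.inv) := mono_quot_map _ _ hpre _ hres' _ hψ
  have hmφ : Mono φ := by
    have h : φ = e'.inv ≫ (e'.hom ≫ φ ≫ e.inv) ≫ e.hom := by simp
    rw [h]
    infer_instance
  -- descend to the open
  have : Epi ((yon S).map hl) := (Sheaf.isLocallySurjective_iff_epi _).1 inferInstance
  have : IsRegularEpi ((yon S).map hl) := IsRegularEpiCategory.regularEpiOfEpi _
  have hk : IsKernelPair ((yon S).map hl) (pullback.fst _ _) (pullback.snd _ _) :=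
    IsPullback.of_hasPullback ((yon S).map hl) ((yon S).map hl)
  have hx : ((yon S).map q₁ ≫ quotProj s' t') ≫ φ = (yon S).map hl ≫ (yon S).map j ≫ quotProj s t := by
    rw [Category.assoc, hφ, ← Category.assoc, ← Functor.map_comp, hX, Functor.map_comp, Category.assoc,
      quotProj_condition, ← Category.assoc, ← Functor.map_comp, ← hhl, Functor.map_comp, Category.assoc]
  obtain ⟨c, hc⟩ := Cofork.IsColimit.desc' hk.toCoequalizer' ((yon S).map q₁ ≫ quotProj s' t') (by
    rw [← cancel_mono φ, Category.assoc (pullback.fst _ _), Category.assoc (pullback.snd _ _), hx, reassoc_of% hk.w])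
  replace hc : (yon S).map hl ≫ c = (yon S).map q₁ ≫ quotProj s' t' := hc
  have hcφ : c ≫ φ = (yon S).map j ≫ quotProj s t := by
    rw [← cancel_epi ((yon S).map hl), reassoc_of% hc, ← hx, Category.assoc]
  haveI := isLocallySurjective_quot s t
  haveI := isLocallySurjective_quot s' t'
  have : Mono j.left := inferInstance
  have : Mono j := mono_of_left j
  have sq : IsPullback c ((yon S).map j) φ (quotProj s t) := by
    refine isPullback_of_points hcφ fun T y x eyx => ?_
    obtain ⟨x, rfl⟩ := exists_map_eq x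
    have hr : Set.range x.left ⊆ Set.range j.left := by
      rintro _ ⟨z, rfl⟩
      obtain ⟨T', p, l, _, hps, _, hl'⟩ := exists_fppf_lift (quotProj s' t') y
      obtain ⟨a, rfl⟩ := exists_map_eq l
      obtain ⟨z', rfl⟩ := p.left.surjective z
      have e1 : ((yon S).map (a ≫ g)) ≫ quotSpπ ((yon S).map s) ((yon S).map t) =
          (yon S).map (p ≫ x) ≫ quotSpπ _ _ := by
        rw [← cancel_mono e.hom, Category.assoc, Category.assoc, he, Functor.map_comp, Category.assoc, ← hφ,
          reassoc_of% hl', eyx, Functor.map_comp, Category.assoc]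
      obtain ⟨Sv, hSv, hr⟩ := exists_rel_sieve _ _ hpre _ _ e1
      obtain ⟨V, k, hk', v, rfl⟩ := exists_mem_range_of_mem_J hSv z'
      obtain ⟨r, h1, h2⟩ := hr k hk'
      obtain ⟨r, rfl⟩ := exists_map_eq r
      rw [← Functor.map_comp, ← Functor.map_comp] at h1 h2
      have h3 := hW (k ≫ a) r (((yon S).map_injective h1).trans (Category.assoc _ _ _).symm) v
      rw [(yon S).map_injective h2] at h3
      exact h3
    let m : T ⟶ W := Over.homMk (IsOpenImmersion.lift j.left x.left hr) (by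
      rw [← Over.w j, IsOpenImmersion.lift_fac_assoc, Over.w])
    have hm : m ≫ j = x := Over.OverMorphism.ext (IsOpenImmersion.lift_fac _ _ _)
    refine ⟨(yon S).map m, ⟨?_, by rw [← Functor.map_comp, hm]⟩, fun m' hm' => ?_⟩
    · rw [← cancel_mono φ, Category.assoc, hcφ, ← Category.assoc, ← Functor.map_comp, hm, eyx]
    · obtain ⟨m', rfl⟩ := exists_map_eq m'
      have := hm'.2
      rw [← Functor.map_comp] at this
      rw [(cancel_mono j).1 (((yon S).map_injective this).trans hm.symm)]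
  have hrep : Representable φ := representable_of_indQA φ (b := quotProj s t) (fun T ξ => exists_fppf_lift _ ξ) sq
    (repWith_mono (fun _ _ q (hq : IsOpenImmersion q) => QA.IndQA.of_locallyQuasiFinite q) ((repWith_yon_iff (P := @IsOpenImmersion) j).2 ‹_›))
  exact repWith_of_isLocallySurjective hrep sq ((repWith_yon_iff (P := @IsOpenImmersion) j).2 ‹_›)

theorem isPreEqvRelSp_map {R U : Over S} {s t : R ⟶ U}
    (h : ∀ T : Over S, _root_.Equivalence fun a b : T ⟶ U => ∃ r : T ⟶ R, r ≫ t = a ∧ r ≫ s = b) :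
    IsPreEqvRelSp ((yon S).map s) ((yon S).map t) := fun T => by
  have key : ∀ a b : T ⟶ U, (∃ r, r ≫ (yon S).map t = (yon S).map a ∧ r ≫ (yon S).map s = (yon S).map b) ↔
      ∃ r, r ≫ t = a ∧ r ≫ s = b := fun a b => by
    constructor
    · rintro ⟨r, h1, h2⟩
      obtain ⟨r, rfl⟩ := exists_map_eq r
      rw [← Functor.map_comp] at h1 h2
      exact ⟨r, (yon S).map_injective h1, (yon S).map_injective h2⟩
    · rintro ⟨r, rfl, rfl⟩
      exact ⟨(yon S).map r, ((yon S).map_comp _ _).symm, ((yon S).map_comp _ _).symm⟩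
  refine ⟨fun a => ?_, fun {a b} e => ?_, fun {a b c} e e' => ?_⟩
  · obtain ⟨a, rfl⟩ := exists_map_eq a
    exact (key a a).2 ((h T).refl a)
  · obtain ⟨a, rfl⟩ := exists_map_eq a
    obtain ⟨b, rfl⟩ := exists_map_eq b
    exact (key b a).2 ((h T).symm ((key a b).1 e))
  · obtain ⟨a, rfl⟩ := exists_map_eq a
    obtain ⟨b, rfl⟩ := exists_map_eq b
    obtain ⟨c, rfl⟩ := exists_map_eq c
    exact (key a c).2 ((h T).trans ((key a b).1 e) ((key b c).1 e'))

theorem exists_restrict {R U R' U' : Over S} {s t : R ⟶ U} {s' t' : R' ⟶ U'} {g : U' ⟶ U} {r : R' ⟶ R}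
    (hsq : IsPullback (prod.lift t' s') r (prod.map g g) (prod.lift t s)) {T : Over S} (a b : T ⟶ U') (r₀ : T ⟶ R)
    (h1 : r₀ ≫ t = a ≫ g) (h2 : r₀ ≫ s = b ≫ g) : ∃ r' : T ⟶ R', r' ≫ t' = a ∧ r' ≫ s' = b := by
  have e : prod.lift a b ≫ prod.map g g = r₀ ≫ prod.lift t s := by rw [prod.lift_map, prod.comp_lift, h1, h2]
  have h := hsq.lift_fst (prod.lift a b) r₀ e
  refine ⟨hsq.lift (prod.lift a b) r₀ e, ?_, ?_⟩
  · exact ((congrArg (_ ≫ ·) (prod.lift_fst t' s').symm).trans (Category.assoc _ _ _).symm).trans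
      ((congrArg (· ≫ prod.fst) h).trans (prod.lift_fst a b))
  · exact ((congrArg (_ ≫ ·) (prod.lift_snd t' s').symm).trans (Category.assoc _ _ _).symm).trans
      ((congrArg (· ≫ prod.snd) h).trans (prod.lift_snd a b))

theorem quotProj_comp {R U R' U' : Over S} (s t : R ⟶ U) (s' t' : R' ⟶ U') (g : U' ⟶ U)
    (φ : QuotSh.quot Scheme.fppfPrecoverage s' t' ⟶ QuotSh.quot Scheme.fppfPrecoverage s t)
    (hφ : QuotSh.quotπ Scheme.fppfPrecoverage s' t' ≫ φ =
      QuotSh.repMap Scheme.fppfPrecoverage g ≫ QuotSh.quotπ Scheme.fppfPrecoverage s t) :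
    quotProj s' t' ≫ φ = (yon S).map g ≫ quotProj s t := by
  rw [quotProj, quotProj, Category.assoc, hφ, ← Category.assoc, repIso_inv_naturality, Category.assoc]

end Groth.Agent.Bootstrap
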