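import Groth.Agent.Bootstrap.Effective
import Groth.Agent.AlgSpLib.SheafLemmas
import Mathlib

/-!
Quotient sheaves of pre-equivalence relations.
-/

set_option autoImplicit false
set_option backward.isDefEq.respectTransparency false

universe u

open CategoryTheory CategoryTheory.Limits AlgebraicGeometry Opposite

namespace Groth.Agent.Bootstrap

open _root_.AlgSp Groth.Agent.AlgSpLib

variable {S : Scheme.{u}} {R U : Sp S} (s t : R ⟶ U)

theorem exists_rel_sieve (h : IsPreEqvRelSp s t) {T : Over S} (a b : (yon S).obj T ⟶ U)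
    (hab : a ≫ quotSpπ s t = b ≫ quotSpπ s t) :
    ∃ Sv ∈ J S T, ∀ ⦃Z : Over S⦄ (g : Z ⟶ T), Sv g →
      ∃ r : (yon S).obj Z ⟶ R, r ≫ t = (yon S).map g ≫ a ∧ r ≫ s = (yon S).map g ≫ b := by
  let p := quotSpπ s t
  let Q : Sp S := (presheafToSheaf (J S) (Type (u + 1))).obj (preQuotSp s t)
  let γ₀ : U.obj ⟶ preQuotSp s t :=
    { app := fun T => ↾fun x => Quot.mk _ ((J S).uliftYonedaEquiv.symm x)
      naturality := fun T T' f => by
        ext x
        exact congrArg (Quot.mk _) ((J S).uliftYonedaEquiv_symm_naturality_left f.unop U x).symm }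
  let γ : U ⟶ Q := ObjectProperty.homMk (γ₀ ≫ toSheafify (J S) (preQuotSp s t))
  have hγ : ∀ {T : Over S} (a : (yon S).obj T ⟶ U), (J S).uliftYonedaEquiv (a ≫ γ) =
      (toSheafify (J S) (preQuotSp s t)).app (op T) (Quot.mk _ a) := by
    intro T a
    rw [uliftYonedaEquiv_comp']
    show (toSheafify (J S) (preQuotSp s t)).app (op T) (Quot.mk _ ((J S).uliftYonedaEquiv.symm _)) = _
    rw [Equiv.symm_apply_apply]
  have hγw : s ≫ γ = t ≫ γ := by
    refine (J S).hom_ext_uliftYoneda.{u + 1} fun X x => ?_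
    apply (J S).uliftYonedaEquiv.injective
    rw [← Category.assoc, ← Category.assoc, hγ, hγ]
    exact congrArg _ (Quot.sound ⟨x, rfl, rfl⟩).symm
  let φ : quotSp s t ⟶ Q := quotSpDesc γ hγw
  have hφ : p ≫ φ = γ := quotSpπ_desc _ _ _ _
  have heq : (toSheafify (J S) (preQuotSp s t)).app (op T) (Quot.mk _ a) =
      (toSheafify (J S) (preQuotSp s t)).app (op T) (Quot.mk _ b) := by
    rw [← hγ, ← hγ, ← hφ, ← Category.assoc, hab, Category.assoc]
  refine ⟨_, Presheaf.equalizerSieve_mem (J S) (toSheafify (J S) (preQuotSp s t)) _ _ heq, fun Z g hg => ?_⟩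
  have h1 : Quot.mk (RelSp s t Z) ((yon S).map g ≫ a) = Quot.mk (RelSp s t Z) ((yon S).map g ≫ b) := hg
  have heqv : Equivalence (RelSp s t Z) := h Z
  rw [Quot.eq, heqv.eqvGen_iff] at h1
  exact h1

/-- the map of quotients along a map whose relation is the restricted one is injective -/
theorem mono_quot_map (h : IsPreEqvRelSp s t) {R' U' : Sp S} {s' t' : R' ⟶ U'} (g : U' ⟶ U)
    (hres : ∀ ⦃T : Over S⦄ (a b : (yon S).obj T ⟶ U'), (∃ r, r ≫ t = a ≫ g ∧ r ≫ s = b ≫ g) →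
      ∃ r', r' ≫ t' = a ∧ r' ≫ s' = b)
    (ψ : quotSp s' t' ⟶ quotSp s t) (hψ : quotSpπ s' t' ≫ ψ = g ≫ quotSpπ s t) : Mono ψ := by
  have : Epi (quotSpπ s' t') := inferInstanceAs (Epi (coequalizer.π s' t'))
  have hls : Sheaf.IsLocallySurjective (quotSpπ s' t') := (Sheaf.isLocallySurjective_iff_epi _).2 inferInstance
  refine mono_of_points ψ fun T a b e => ?_
  obtain ⟨R₁, hR₁, hl₁⟩ := exists_lift_cover (quotSpπ s' t') a
  refine hom_ext_cover hR₁ fun Z g₁ hg₁ => ?_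
  obtain ⟨l₁, hl₁'⟩ := hl₁ g₁ hg₁
  obtain ⟨R₂, hR₂, hl₂⟩ := exists_lift_cover (quotSpπ s' t')
    ((yon S).map (Over.homMk g₁ rfl : Over.mk (g₁ ≫ T.hom) ⟶ T) ≫ b)
  refine hom_ext_cover hR₂ fun Z' g₂ hg₂ => ?_
  obtain ⟨l₂, hl₂'⟩ := hl₂ g₂ hg₂
  rw [← hl₁', ← hl₂', ← Category.assoc]
  generalize hl : (yon S).map (Over.homMk g₂ rfl : Over.mk (g₂ ≫ _) ⟶ Over.mk (g₁ ≫ T.hom)) ≫ l₁ = l
  have e' : (l ≫ g) ≫ quotSpπ s t = (l₂ ≫ g) ≫ quotSpπ s t := by
    rw [Category.assoc, Category.assoc, ← hψ, ← hl]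
    simp only [Category.assoc]
    rw [reassoc_of% hl₁', reassoc_of% hl₂', e]
  obtain ⟨Sv, hSv, hr⟩ := exists_rel_sieve s t h _ _ e'
  apply (J S).uliftYonedaEquiv.injective
  refine ((((isSheaf_iff_isSheaf_of_type _ _).1 (quotSp s' t').property) Sv hSv).isSeparatedFor).ext fun V k hk => ?_
  rw [GrothendieckTopology.uliftYonedaEquiv_naturality, GrothendieckTopology.uliftYonedaEquiv_naturality]
  congr 1
  obtain ⟨r, h1, h2⟩ := hr k hk
  obtain ⟨r', h1', h2'⟩ := hres ((yon S).map k ≫ l) ((yon S).map k ≫ l₂)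
    ⟨r, by rw [h1, Category.assoc], by rw [h2, Category.assoc]⟩
  rw [← Category.assoc, ← Category.assoc, ← h1', ← h2', Category.assoc, Category.assoc,
    quotSp_condition]

/-- groupoids give pre-equivalence relations -/
theorem isPreEqvRelSp_groupoid {B : Sp S} (G : GroupoidSp B) : IsPreEqvRelSp G.s G.t := fun T =>
  { refl := fun a => ⟨a ≫ G.e, by rw [Category.assoc, G.e_t, Category.comp_id],
      by rw [Category.assoc, G.e_s, Category.comp_id]⟩
    symm := fun {a b} ⟨r, h1, h2⟩ => ⟨r ≫ G.i, by rw [Category.assoc, G.i_t, h2],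
      by rw [Category.assoc, G.i_s, h1]⟩
    trans := fun {a b c} ⟨r, h1, h2⟩ ⟨r', h1', h2'⟩ => ⟨pullback.lift r r' (h2.trans h1'.symm) ≫ G.c,
      by rw [G.comp_t]; exact h1, by rw [G.comp_s]; exact h2'⟩ }

end Groth.Agent.Bootstrap
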