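import Groth.Agent.Bootstrap.Diag
import Groth.Agent.Bootstrap.Tools
import Groth.Agent.S19957
import Groth.Agent.S10140
import Groth.Agent.GrpdSplit.Restrict
import Mathlib

/-!
Splitting a quasi-finite flat equivalence relation etale locally and dividing by the finite part.
-/

set_option autoImplicit false
set_option linter.style.haveILetI false
set_option backward.isDefEq.respectTransparency false

universe u

open CategoryTheory CategoryTheory.Limits AlgebraicGeometry
open Groth.Agent.AlgSpLib AlgSp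

namespace Groth.Agent.Bootstrap

variable {S : Scheme.{u}} {R U : Over S} {s t : R ⟶ U}

theorem of_comp_openImmersion (P : MorphismProperty Scheme.{u}) [P.IsStableUnderBaseChange]
    [P.IsStableUnderComposition] (hP : ∀ {A B : Scheme.{u}} (j : A ⟶ B), IsOpenImmersion j → P j)
    {X Y Z : Scheme.{u}} (f : X ⟶ Y) (g : Y ⟶ Z) [IsOpenImmersion g] (h : P (f ≫ g)) : P f :=
  of_postcomp_diag P f g hP h

theorem exists_quotient_data (h : AlgSp.IsEqvRel s t) [Flat s.left] [LocallyOfFinitePresentation s.left]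
    [LocallyQuasiFinite s.left] [Flat t.left] [LocallyOfFinitePresentation t.left] [LocallyQuasiFinite t.left]
    (u : U.left) :
    ∃ (U' V P : Over S) (g : U' ⟶ U) (φ : U' ⟶ V) (p₁ p₂ : P ⟶ U'),
      Flat g.left ∧ LocallyOfFinitePresentation g.left ∧ IsFinite φ.left ∧ Flat φ.left ∧
      LocallyOfFinitePresentation φ.left ∧ Surjective φ.left ∧ u ∈ Set.range g.left ∧
      IsPullback p₁.left p₂.left φ.left φ.left ∧
      (yon S).map p₁ ≫ (yon S).map g ≫ quotProj s t = (yon S).map p₂ ≫ (yon S).map g ≫ quotProj s t ∧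
      ∀ (K : Over S) (a₁ a₂ : K ⟶ U'),
        IsPullback ((yon S).map a₁) ((yon S).map a₂) ((yon S).map g ≫ quotProj s t) ((yon S).map g ≫ quotProj s t) →
        ∃ m : P ⟶ K, IsOpenImmersion m.left ∧ m ≫ a₁ = p₁ ∧ m ≫ a₂ = p₂ := by
  let G := SliceEqv.eqvGrpd h
  obtain ⟨U₁, hU₁, hu₁, -⟩ := exists_isAffineOpen_mem_and_subset (X := U.left) (x := u) (U := ⊤) trivial
  let ι : U₁.toScheme ⟶ G.U := U₁.ι
  haveI hι : IsOpenImmersion ι := inferInstanceAs (IsOpenImmersion U₁.ι)
  let G₁ := GrpdSplit.rgrp G ι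
  haveI : IsAffine G₁.U := hU₁
  let rr : G₁.R ⟶ G.R := GrpdSplit.rr G ι
  haveI hrr : IsOpenImmersion rr := by
    haveI : IsOpenImmersion (GrpdSplit.prodMap G ι) :=
      MorphismProperty.pullbackMap (P := @IsOpenImmersion) inferInstance inferInstance rfl rfl
    exact MorphismProperty.pullback_fst (P := @IsOpenImmersion) _ _ inferInstance
  have hprop : ∀ (P : MorphismProperty Scheme.{u}) [P.IsStableUnderBaseChange] [P.IsStableUnderComposition],
      (∀ {A B : Scheme.{u}} (j : A ⟶ B), IsOpenImmersion j → P j) → P s.left → P t.left → P G₁.s ∧ P G₁.t := by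
    intro P _ _ hP hs ht
    constructor
    · refine of_comp_openImmersion P hP G₁.s ι ?_
      rw [show G₁.s ≫ ι = rr ≫ G.s from (GrpdSplit.rr_s G ι).symm]
      exact P.comp_mem _ _ (hP _ hrr) hs
    · refine of_comp_openImmersion P hP G₁.t ι ?_
      rw [show G₁.t ≫ ι = rr ≫ G.t from (GrpdSplit.rr_t G ι).symm]
      exact P.comp_mem _ _ (hP _ hrr) ht
  obtain ⟨hfs, hft⟩ := hprop @Flat (fun _ _ => inferInstance) ‹_› ‹_›
  obtain ⟨hps, hpt⟩ := hprop @LocallyOfFinitePresentation (fun _ _ => inferInstance) ‹_› ‹_›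
  obtain ⟨hqs, hqt⟩ := hprop @LocallyQuasiFinite (fun _ _ => inferInstance) ‹_› ‹_›
  haveI hmG : Mono G.j := SliceEqv.mono_j h
  haveI hm₁ : Mono G₁.j := ⟨fun {T} x y e => by
    have e₁ : x ≫ G₁.t = y ≫ G₁.t := by
      have := congrArg (fun k => k ≫ pullback.fst G₁.pU G₁.pU) e
      simpa [Grpd.GroupoidScheme.j] using this
    have e₂ : x ≫ G₁.s = y ≫ G₁.s := by
      have := congrArg (fun k => k ≫ pullback.snd G₁.pU G₁.pU) e
      simpa [Grpd.GroupoidScheme.j] using this
    refine GrpdSplit.rext G ι ?_ e₁ e₂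
    refine SliceEqv.arrow_ext h _ _ ?_ ?_
    · show (x ≫ rr) ≫ G.t = (y ≫ rr) ≫ G.t
      rw [Category.assoc, Category.assoc, show rr ≫ G.t = G₁.t ≫ ι from GrpdSplit.rr_t G ι, ← Category.assoc,
        e₁, Category.assoc]
    · show (x ≫ rr) ≫ G.s = (y ≫ rr) ≫ G.s
      rw [Category.assoc, Category.assoc, show rr ≫ G.s = G₁.s ≫ ι from GrpdSplit.rr_s G ι, ← Category.assoc,
        e₂, Category.assoc]⟩
  haveI : IsSeparated G₁.pU := by
    haveI : IsSeparated (G₁.pU ≫ terminal.from S) := by rw [terminal.comp_from]; infer_instance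
    exact IsSeparated.of_comp G₁.pU (terminal.from S)
  haveI hjsep : IsSeparated G₁.j := inferInstance
  have hjs : G₁.j ≫ pullback.snd G₁.pU G₁.pU = G₁.s := pullback.lift_snd _ _ _
  have hjt : G₁.j ≫ pullback.fst G₁.pU G₁.pU = G₁.t := pullback.lift_fst _ _ _
  haveI : IsSeparated G₁.s := by
    rw [← hjs]; haveI : IsSeparated (pullback.snd G₁.pU G₁.pU) :=
      MorphismProperty.pullback_snd (P := @IsSeparated) _ _ inferInstance
    infer_instance
  haveI : IsSeparated G₁.t := by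
    rw [← hjt]; haveI : IsSeparated (pullback.fst G₁.pU G₁.pU) :=
      MorphismProperty.pullback_fst (P := @IsSeparated) _ _ inferInstance
    infer_instance
  haveI : Mono G₁.stabilizerToU := inferInstanceAs (Mono (pullback.snd G₁.j G₁.diag))
  let u₁ : G₁.U := ⟨u, hu₁⟩
  obtain ⟨G', φ, u', hU', hφe, hφu, -, hsq, P, ιP, hιP, he, hi, hc, hfsP, hftP, -⟩ :=
    S19957.result S G₁ u₁
      ((Set.subsingleton_singleton (a := u₁)).preimage G₁.stabilizerToU.injective).finite
      (fun g _ => Scheme.Hom.quasiFiniteAt_iff_isOpen_singleton_asFiber.mp (G₁.s.quasiFiniteAt _))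
  let M := pullback.map G'.pU G'.pU G₁.pU G₁.pU φ.fU φ.fU (𝟙 S)
    ((Category.comp_id _).trans φ.fU_over.symm) ((Category.comp_id _).trans φ.fU_over.symm)
  haveI : IsAffine G'.U := hU'
  haveI : Etale φ.fU := hφe
  haveI hM : Etale M := MorphismProperty.pullbackMap (P := @Etale) hφe hφe φ.fU_over.symm φ.fU_over.symm
  haveI hφR : Etale φ.fR := MorphismProperty.of_isPullback hsq.flip hM
  have hjs' : G'.j ≫ pullback.snd G'.pU G'.pU = G'.s := pullback.lift_snd _ _ _
  have hjt' : G'.j ≫ pullback.fst G'.pU G'.pU = G'.t := pullback.lift_fst _ _ _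
  have hprop' : ∀ (Q : MorphismProperty Scheme.{u}) [Q.IsStableUnderBaseChange] [Q.IsStableUnderComposition],
      (∀ {A B : Scheme.{u}} (j : A ⟶ B), IsOpenImmersion j → Q j) → Q φ.fR → Q G₁.s → Q G₁.t →
        Q G'.s ∧ Q G'.t := by
    intro Q _ _ hQ hR hs ht
    refine ⟨of_postcomp_diag Q G'.s φ.fU hQ ?_, of_postcomp_diag Q G'.t φ.fU hQ ?_⟩
    · rw [← φ.comm_s]; exact Q.comp_mem _ _ hR hs
    · rw [← φ.comm_t]; exact Q.comp_mem _ _ hR ht
  obtain ⟨_, _⟩ := hprop' @Flat (fun _ _ => inferInstance) inferInstance hfs hft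
  obtain ⟨_, _⟩ := hprop' @LocallyOfFinitePresentation (fun _ _ => inferInstance) inferInstance hps hpt
  haveI hm' : Mono G'.j := by
    refine ⟨fun {T} x y e => hsq.hom_ext ?_ e⟩
    rw [← cancel_mono G₁.j, Category.assoc, Category.assoc, hsq.w, reassoc_of% e]
  haveI : IsSeparated G'.j := inferInstance
  haveI : LocallyOfFiniteType G₁.j := by
    haveI : LocallyOfFiniteType (G₁.j ≫ pullback.fst G₁.pU G₁.pU) := by rw [hjt]; infer_instance
    exact locallyOfFiniteType_of_comp G₁.j (pullback.fst G₁.pU G₁.pU)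
  haveI : LocallyOfFiniteType G'.j :=
    MorphismProperty.of_isPullback (P := @LocallyOfFiniteType) hsq inferInstance
  haveI : LocallyQuasiFinite G₁.j := by
    haveI : LocallyQuasiFinite (G₁.j ≫ pullback.fst G₁.pU G₁.pU) := by rw [hjt]; exact hqt
    exact .of_comp G₁.j (pullback.fst G₁.pU G₁.pU)
  haveI : LocallyQuasiFinite G'.j := MorphismProperty.of_isPullback (P := @LocallyQuasiFinite) hsq inferInstance
  haveI := hιP; haveI := hfsP; haveI := hftP
  obtain ⟨H, χ, -, hquot, hχfin, hχfl, hχfp, hPsq, -⟩ := S10140.result S G' P ιP he hi hc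
  -- objects over S
  let U' : Over S := Over.mk G'.pU
  let V : Over S := Over.mk H.pU
  let R' : Over S := Over.mk G'.pR
  let P' : Over S := Over.mk (ιP ≫ G'.pR)
  let g : U' ⟶ U := Over.homMk (φ.fU ≫ ι) (by
    show (φ.fU ≫ ι) ≫ U.hom = G'.pU
    rw [Category.assoc]; exact φ.fU_over)
  let s' : R' ⟶ U' := Over.homMk G'.s G'.s_over
  let t' : R' ⟶ U' := Over.homMk G'.t G'.t_over
  let j : P' ⟶ R' := Over.homMk ιP rfl
  let q : U' ⟶ V := Over.homMk χ.fU χ.fU_over
  haveI : Etale g.left := inferInstanceAs (Etale (φ.fU ≫ ι))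
  have hRR : ∃ r : R' ⟶ R, r ≫ t = t' ≫ g ∧ r ≫ s = s' ≫ g := by
    have e₁ : (φ.fR ≫ rr) ≫ G.t = G'.t ≫ φ.fU ≫ ι := by
      rw [Category.assoc, show rr ≫ G.t = G₁.t ≫ ι from GrpdSplit.rr_t G ι, ← Category.assoc, φ.comm_t,
        Category.assoc]
    have e₂ : (φ.fR ≫ rr) ≫ G.s = G'.s ≫ φ.fU ≫ ι := by
      rw [Category.assoc, show rr ≫ G.s = G₁.s ≫ ι from GrpdSplit.rr_s G ι, ← Category.assoc, φ.comm_s,
        Category.assoc]
    refine ⟨Over.homMk (φ.fR ≫ rr) ?_, Over.OverMorphism.ext e₁, Over.OverMorphism.ext e₂⟩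
    show (φ.fR ≫ rr) ≫ G.pR = G'.pR
    rw [← G.s_over, ← Category.assoc, e₂, Category.assoc, ← G'.s_over, Category.assoc]
    exact congrArg (G'.s ≫ ·) φ.fU_over
  obtain ⟨r, hrt, hrs⟩ := hRR
  have hker : IsPullback ((yon S).map t') ((yon S).map s') ((yon S).map g ≫ quotProj s t)
      ((yon S).map g ≫ quotProj s t) := by
    refine isPullback_of_points ?_ fun T a b hab => ?_
    · rw [← Category.assoc, ← Category.assoc, ← Functor.map_comp, ← Functor.map_comp, ← hrt, ← hrs, map_quot_eq]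
    obtain ⟨a, rfl⟩ := exists_map_eq a
    obtain ⟨b, rfl⟩ := exists_map_eq b
    rw [← Category.assoc, ← Category.assoc, ← Functor.map_comp, ← Functor.map_comp] at hab
    obtain ⟨ρ, hρt, hρs⟩ := exists_arrow h _ _ hab
    let x₁ : T.left ⟶ G₁.R := GrpdSplit.rmk G ι ρ.left (a.left ≫ φ.fU) (b.left ≫ φ.fU)
      ((congrArg CommaMorphism.left hρt).trans (Category.assoc _ _ _).symm)
      ((congrArg CommaMorphism.left hρs).trans (Category.assoc _ _ _).symm)
    let a₀ : T.left ⟶ G'.U := a.left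
    let b₀ : T.left ⟶ G'.U := b.left
    have hw : a₀ ≫ G'.pU = b₀ ≫ G'.pU := (Over.w a).trans (Over.w b).symm
    have hx₁ : x₁ ≫ G₁.j = pullback.lift a₀ b₀ hw ≫ M := by
      apply pullback.hom_ext
      · rw [Category.assoc, hjt, Category.assoc, pullback.lift_fst, pullback.lift_fst_assoc]
        exact GrpdSplit.rmk_rt G ι _ _ _ _ _
      · rw [Category.assoc, hjs, Category.assoc, pullback.lift_snd, pullback.lift_snd_assoc]
        exact GrpdSplit.rmk_rs G ι _ _ _ _ _
    let x := hsq.lift x₁ _ hx₁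
    have hxt : x ≫ G'.t = a₀ := by
      rw [← hjt', ← Category.assoc, IsPullback.lift_snd, pullback.lift_fst]
    have hxs : x ≫ G'.s = b₀ := by
      rw [← hjs', ← Category.assoc, IsPullback.lift_snd, pullback.lift_snd]
    let x' : T ⟶ R' := Over.homMk x (show x ≫ G'.pR = T.hom by
      rw [← G'.s_over, ← Category.assoc, hxs]; exact Over.w b)
    have h₁ : x' ≫ t' = a := Over.OverMorphism.ext hxt
    have h₂ : x' ≫ s' = b := Over.OverMorphism.ext hxs
    refine ⟨(yon S).map x', ⟨by rw [← Functor.map_comp, h₁], by rw [← Functor.map_comp, h₂]⟩, ?_⟩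
    rintro y ⟨hy₁, hy₂⟩
    obtain ⟨y, rfl⟩ := exists_map_eq y
    rw [← Functor.map_comp] at hy₁ hy₂
    congr 1
    ext
    show y.left = x
    rw [← cancel_mono G'.j]
    apply pullback.hom_ext
    · rw [Category.assoc, hjt', Category.assoc, hjt', hxt]
      exact congrArg CommaMorphism.left ((yon S).map_injective hy₁)
    · rw [Category.assoc, hjs', Category.assoc, hjs', hxs]
      exact congrArg CommaMorphism.left ((yon S).map_injective hy₂)
  refine ⟨U', V, P', g, q, j ≫ t', j ≫ s', inferInstance, inferInstance, hχfin, hχfl, hχfp,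
    QuotShLib.fppf_of_isQuotient_surjective hquot, ⟨u', ?_⟩, hPsq, ?_, ?_⟩
  · show ι (φ.fU u') = u
    rw [hφu]; rfl
  · simp only [Functor.map_comp, Category.assoc]; rw [hker.w]
  · intro K a₁ a₂ hK
    obtain ⟨ν, hν⟩ := exists_map_eq (hker.isoIsPullback _ _ hK).hom
    have h₁ : ν ≫ a₁ = t' := (yon S).map_injective (by
      rw [Functor.map_comp, hν, IsPullback.isoIsPullback_hom_fst])
    have h₂ : ν ≫ a₂ = s' := (yon S).map_injective (by
      rw [Functor.map_comp, hν, IsPullback.isoIsPullback_hom_snd])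
    haveI : IsIso ((yon S).map ν) := hν ▸ inferInstance
    haveI : IsIso ν := isIso_of_fully_faithful (yon S) ν
    haveI : IsIso ν.left := inferInstanceAs (IsIso ((Over.forget S).map ν))
    refine ⟨j ≫ ν, ?_, by rw [Category.assoc, h₁], by rw [Category.assoc, h₂]⟩
    show IsOpenImmersion (ιP ≫ ν.left)
    infer_instance

end Groth.Agent.Bootstrap
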